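import Cfsg.Agent.KFacts.TwF4.CentO
set_option linter.all false

/-!
# Further centralisers and centres in a group of type `²F₄`

`Q2 = Z_2 X_3 Z_4 X_5 Z_6`, `Q1 = X_4 Q2`, `V5 = Z_4 X_5 Z_6`.

* `centralizer_Q2 : C(Q2) = Q1`;
* `centralizer_NO : C(NO) = V5`;
* `center_HO : Z(HO) = X_5`, `center_PL : Z(PL) = Z_4`.
-/

set_option autoImplicit false
set_option linter.unusedSectionVars false

namespace Cfsg.Agent.KFacts.TwF4

open Cfsg.Agent.SplitTwo Cfsg.Agent.SplitTwo.ZS Cfsg.Agent.TitsThree.RankTwoZ Cfsg.Agent.TitsThree.RankTwoRGD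
open Cfsg.Agent.SplitTwo.RootSysZ
open scoped commutatorElement

universe u

variable {F : Type*} [Field F] {σ : F →+* F} {G : Type u} [Group G] (S : Full σ G)

namespace Full

/-- `Z_2 X_3 Z_4 X_5 Z_6` -/
def Q2 : Subgroup G := S.Zc 1 ⊔ S.XZ 3 ⊔ S.Zc 2 ⊔ S.XZ 5 ⊔ S.Zc 3

theorem q2_1 (u : F) : S.e 1 0 u ∈ S.Q2 :=
  Subgroup.mem_sup_left (Subgroup.mem_sup_left (Subgroup.mem_sup_left (Subgroup.mem_sup_left ⟨u, rfl⟩)))
theorem q2_2 (t : F) : S.o 1 t ∈ S.Q2 :=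
  Subgroup.mem_sup_left (Subgroup.mem_sup_left (Subgroup.mem_sup_left (Subgroup.mem_sup_right (S.mX3 t))))
theorem q2_3 (u : F) : S.e 2 0 u ∈ S.Q2 :=
  Subgroup.mem_sup_left (Subgroup.mem_sup_left (Subgroup.mem_sup_right ⟨u, rfl⟩))
theorem q2_4 (t : F) : S.o 2 t ∈ S.Q2 := Subgroup.mem_sup_left (Subgroup.mem_sup_right (S.mX5 t))
theorem q2_5 (u : F) : S.e 3 0 u ∈ S.Q2 := Subgroup.mem_sup_right ⟨u, rfl⟩

theorem Q2_le {K : Subgroup G} (h1 : ∀ u, S.e 1 0 u ∈ K) (h2 : ∀ t, S.o 1 t ∈ K) (h3 : ∀ u, S.e 2 0 u ∈ K)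
    (h4 : ∀ t, S.o 2 t ∈ K) (h5 : ∀ u, S.e 3 0 u ∈ K) : S.Q2 ≤ K := by
  refine sup_le (sup_le (sup_le (sup_le ?_ ?_) ?_) ?_) ?_
  · rintro _ ⟨u, rfl⟩; exact h1 u
  · intro x hx; obtain ⟨t, rfl⟩ := S.X3 hx; exact h2 t
  · rintro _ ⟨u, rfl⟩; exact h3 u
  · intro x hx; obtain ⟨t, rfl⟩ := S.X5 hx; exact h4 t
  · rintro _ ⟨u, rfl⟩; exact h5 u

theorem Q2_le_J : S.Q2 ≤ J S.XZ 2 6 :=
  S.Q2_le (fun u => mem_J (S.mX2 0 u) (by norm_num) (by norm_num)) (fun t => mem_J (S.mX3 t) (by norm_num) (by norm_num))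
    (fun u => mem_J (S.mX4 0 u) (by norm_num) (by norm_num)) (fun t => mem_J (S.mX5 t) (by norm_num) (by norm_num))
    (fun u => mem_J (S.mX6 0 u) (by norm_num) (by norm_num))

/-- conjugation of the generators of `Q2` -/
theorem Q2_conj_X {k : ℤ} (h1 : 4 ≤ k) (h2 : k ≤ 8) {x : G} (hx : x ∈ S.XZ k) :
    S.Q2 ≤ S.Q2.comap (MulAut.conj x⁻¹).toMonoidHom := by
  have key : ∀ y s : G, y ∈ S.Q2 → s ∈ S.Q2 → y * x = x * y * s → x⁻¹ * y * x⁻¹⁻¹ ∈ S.Q2 := by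
    intro y s hy hs h
    have e : x⁻¹ * y * x⁻¹⁻¹ = y * s := by
      rw [inv_inv, mul_assoc, h]; group
    rw [e]; exact mul_mem hy hs
  interval_cases k
  · obtain ⟨p, v, rfl⟩ := S.X4 hx
    refine S.Q2_le (fun u => key _ 1 (S.q2_1 u) (one_mem _) ?_) (fun t => key _ 1 (S.q2_2 t) (one_mem _) ?_)
      (fun u => key _ 1 (S.q2_3 u) (one_mem _) ?_) (fun t => key _ 1 (S.q2_4 t) (one_mem _) ?_)
      (fun u => key _ 1 (S.q2_5 u) (one_mem _) ?_)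
    · have := S.e_e1 1 0 u p v
      rw [zero_mul, S.o_zero] at this; exact this
    · rw [mul_one]; exact S.o_e1 1 t p v
    · rw [mul_one]; exact (S.comm_Z4 (k := 4) (by norm_num) (by norm_num) (S.mX4 p v) u).symm
    · rw [mul_one]; exact (S.e_o0 2 p v t).symm
    · have := S.e_e1 2 p v 0 u
      rw [mul_zero, S.o_zero, mul_one] at this
      rw [mul_one]; exact this.symm
  · obtain ⟨s, rfl⟩ := S.X5 hx
    refine S.Q2_le (fun u => key _ 1 (S.q2_1 u) (one_mem _) ?_) (fun t => key _ 1 (S.q2_2 t) (one_mem _) ?_)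
      (fun u => key _ 1 (S.q2_3 u) (one_mem _) ?_) (fun t => key _ 1 (S.q2_4 t) (one_mem _) ?_)
      (fun u => key _ 1 (S.q2_5 u) (one_mem _) ?_)
    · have : S.e 1 0 u * S.o 2 s = S.o 2 s * S.e 1 0 u * S.e 2 0 (0 * s) := S.e_o1 1 0 u s
      rw [zero_mul, S.e_zero] at this; exact this
    · rw [mul_one]; exact S.o_o1 1 t s
    · rw [mul_one]; exact S.e_o0 2 0 u s
    · rw [mul_one, S.o_add, S.o_add, add_comm]
    · rw [mul_one]; exact (S.o_e1 2 s 0 u).symm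
  · obtain ⟨q, v, rfl⟩ := S.X6 hx
    refine S.Q2_le (fun u => key _ 1 (S.q2_1 u) (one_mem _) ?_) (fun t => key _ _ (S.q2_2 t) (S.q2_3 (t * q)) ?_)
      (fun u => key _ 1 (S.q2_3 u) (one_mem _) ?_) (fun t => key _ 1 (S.q2_4 t) (one_mem _) ?_)
      (fun u => key _ 1 (S.q2_5 u) (one_mem _) ?_)
    · rw [mul_one]; exact S.e_e2 1 0 u q v
    · exact S.o_e2 1 t q v
    · have := S.e_e1 2 0 u q v
      rw [zero_mul, S.o_zero] at this; exact this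
    · rw [mul_one]; exact S.o_e1 2 t q v
    · rw [mul_one]; exact (S.comm_Z6 (k := 6) (by norm_num) (by norm_num) (S.mX6 q v) u).symm
  · obtain ⟨s, rfl⟩ := S.X7 hx
    refine S.Q2_le (fun u => key _ _ (S.q2_1 u) (S.q2_3 (u * s)) ?_) (fun t => key _ 1 (S.q2_2 t) (one_mem _) ?_)
      (fun u => key _ 1 (S.q2_3 u) (one_mem _) ?_) (fun t => key _ 1 (S.q2_4 t) (one_mem _) ?_)
      (fun u => key _ 1 (S.q2_5 u) (one_mem _) ?_)
    · have : S.e 1 0 u * S.o 3 s = S.o 3 s * S.e 1 0 u * S.e 2 0 (0 * σ 0 * s + u * s) * S.o 2 (σ 0 * s) * S.e 3 0 (0 * σ s) :=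
        S.e_o2 1 0 u s
      rw [map_zero, zero_mul, zero_mul, zero_mul, zero_add, S.o_zero, S.e_zero, mul_one, mul_one] at this
      exact this
    · rw [mul_one]; exact S.o_o2 1 t s
    · rw [mul_one]; exact (S.comm_Z4 (k := 7) (by norm_num) (by norm_num) (S.mX7 s) u).symm
    · rw [mul_one]; exact S.o_o1 2 t s
    · rw [mul_one]; exact (S.comm_Z6 (k := 7) (by norm_num) (by norm_num) (S.mX7 s) u).symm
  · obtain ⟨q, v, rfl⟩ := S.X8 hx
    have r1 : ∀ u, S.e 1 0 u * S.e 4 q v = S.e 4 q v * S.e 1 0 u *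
        (S.o 1 (0 * σ 0 * q + u * q) * S.e 2 (σ 0 * q) (0 * u * v + 0 * 0 * σ 0 * v + σ u * q * σ q + σ u * v) *
        S.o 2 (u * v) * S.e 3 (0 * σ q) (0 * σ 0 * q * q * σ q + 0 * σ 0 * σ v + u * q * v + u * q * q * σ q + u * σ v) *
        S.o 3 (0 * q * σ q + 0 * v)) := fun u => by
      have := S.e_e3 1 0 u q v
      rw [show ((1 : ZMod 8) + 3) = 4 from rfl, show ((1 : ZMod 8) + 1) = 2 from rfl, show ((1 : ZMod 8) + 2) = 3 from rfl] at this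
      rw [this]; group
    have r2 : ∀ t, S.o 1 t * S.e 4 q v = S.e 4 q v * S.o 1 t *
        (S.e 2 0 (σ t * q) * S.o 2 (t * σ q) * S.e 3 0 (t * q * σ q + t * v)) := fun t => by
      have := S.o_e3 1 t q v
      rw [show ((1 : ZMod 8) + 3) = 4 from rfl, show ((1 : ZMod 8) + 1) = 2 from rfl, show ((1 : ZMod 8) + 2) = 3 from rfl] at this
      rw [this]; group
    refine S.Q2_le (fun u => key _ _ (S.q2_1 u) ?_ (r1 u)) (fun t => key _ _ (S.q2_2 t) ?_ (r2 t))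
      (fun u => key _ 1 (S.q2_3 u) (one_mem _) ?_) (fun t => key _ _ (S.q2_4 t) (S.q2_5 (t * q)) ?_)
      (fun u => key _ 1 (S.q2_5 u) (one_mem _) ?_)
    · simp only [map_zero, zero_mul, mul_zero, add_zero, zero_add, S.o_zero, mul_one]
      exact mul_mem (mul_mem (mul_mem (S.q2_2 _) (S.q2_3 _)) (S.q2_4 _)) (S.q2_5 _)
    · exact mul_mem (mul_mem (S.q2_3 _) (S.q2_4 _)) (S.q2_5 _)
    · rw [mul_one]; exact S.e_e2 2 0 u q v
    · exact S.o_e2 2 t q v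
    · rw [mul_one]; exact (S.comm_Z6 (k := 8) (by norm_num) (by norm_num) (S.mX8 q v) u).symm

theorem n2_Q2 {y : G} (hy : y ∈ S.Q2) : S.n2 * y * S.n2⁻¹ ∈ S.Q2 := by
  have : S.Q2 ≤ S.Q2.comap (MulAut.conj S.n2).toMonoidHom := by
    refine S.Q2_le (fun u => ?_) (fun t => ?_) (fun u => ?_) (fun t => ?_) (fun u => ?_)
    · show S.n2 * S.e 1 0 u * S.n2⁻¹ ∈ S.Q2
      rw [S.n2_e]; exact S.q2_5 u
    · show S.n2 * S.o 1 t * S.n2⁻¹ ∈ S.Q2
      rw [S.n2_o]; exact S.q2_4 t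
    · show S.n2 * S.e 2 0 u * S.n2⁻¹ ∈ S.Q2
      rw [S.n2_e]; exact S.q2_3 u
    · show S.n2 * S.o 2 t * S.n2⁻¹ ∈ S.Q2
      rw [S.n2_o]; exact S.q2_2 t
    · show S.n2 * S.e 3 0 u * S.n2⁻¹ ∈ S.Q2
      rw [S.n2_e]; exact S.q2_1 u
  exact this hy

theorem n2_inv : S.n2⁻¹ = S.n2 := inv_eq_of_mul_eq_one_left S.n2_sq
theorem n1_inv : S.n1⁻¹ = S.n1 := inv_eq_of_mul_eq_one_left S.n1_sq

theorem Q2_norm : S.PL ≤ Subgroup.normalizer (S.Q2 : Set G) := by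
  have h48 : ∀ k : ℤ, 4 ≤ k → k ≤ 8 → ∀ x ∈ S.XZ k, ∀ y ∈ S.Q2, x * y * x⁻¹ ∈ S.Q2 := by
    intro k h1 h2 x hx y hy
    have := S.Q2_conj_X h1 h2 (inv_mem hx) hy
    rw [Subgroup.mem_comap] at this
    rwa [inv_inv] at this
  have h08 : ∀ k : ℤ, 0 ≤ k → k ≤ 8 → ∀ x ∈ S.XZ k, ∀ y ∈ S.Q2, x * y * x⁻¹ ∈ S.Q2 := by
    intro k h1 h2 x hx y hy
    rcases le_or_gt 4 k with h3 | h3
    · exact h48 k h3 h2 x hx y hy
    · have h4 := S.n2_refl.mem hx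
      have h5 := h48 (8 - k) (by omega) (by omega) _ h4 _ (S.n2_Q2 hy)
      have h6 := S.n2_Q2 h5
      have e : S.n2 * (S.n2 * x * S.n2⁻¹ * (S.n2 * y * S.n2⁻¹) * (S.n2 * x * S.n2⁻¹)⁻¹) * S.n2⁻¹ = x * y * x⁻¹ := by
        calc S.n2 * (S.n2 * x * S.n2⁻¹ * (S.n2 * y * S.n2⁻¹) * (S.n2 * x * S.n2⁻¹)⁻¹) * S.n2⁻¹ =
            (S.n2 * S.n2) * (x * y * x⁻¹) * (S.n2 * S.n2)⁻¹ := by group
          _ = _ := by rw [S.n2_sq]; group
      rwa [e] at h6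
  refine J_le fun k h1 h2 x hx => ?_
  rw [Subgroup.mem_normalizer_iff]
  intro y
  refine ⟨fun hy => h08 k h1 h2 x hx y hy, fun hy => ?_⟩
  have h3 := h08 k h1 h2 _ (inv_mem hx) _ hy
  have e : x⁻¹ * (x * y * x⁻¹) * x⁻¹⁻¹ = y := by group
  rwa [e] at h3

/-! ### commutators with `Z_2` and `Z_6` -/

/-- `[J 1 8, Z_2] ≤ J 3 7` -/
theorem comm_Z2 {b : G} (hb : b ∈ J S.XZ 1 8) (u : F) : b * S.e 1 0 u * b⁻¹ * (S.e 1 0 u)⁻¹ ∈ J S.XZ 3 7 := by
  have Z8 := S.zsys8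
  have h1 : ∀ k : ℤ, 1 ≤ k → k ≤ 8 → ∀ x ∈ S.XZ k, x * S.e 1 0 u * x⁻¹ * (S.e 1 0 u)⁻¹ ∈ J S.XZ 3 7 := by
    intro k h1 h2 x hx
    rcases le_or_gt k 2 with h3 | h3
    · have e : x * S.e 1 0 u = S.e 1 0 u * x := by
        interval_cases k
        · obtain ⟨t, rfl⟩ := S.X1 hx
          exact S.o_e1 0 t 0 u
        · obtain ⟨p, v, rfl⟩ := S.X2 hx
          rw [S.e_mul, S.e_mul, map_zero, mul_zero, zero_mul, add_zero, add_zero, add_zero, zero_add, add_comm]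
      rw [e, mul_inv_cancel_right, mul_inv_cancel]; exact one_mem _
    · have h4 := Z8.comm' (k := k) (l := 2) (by omega) (by omega) hx (S.mX2 0 u)
      rw [commutatorElement_def] at h4
      exact J_mono (by omega) (by omega) h4
  -- the set of such elements is a subgroup
  let D : Subgroup G :=
    { carrier := {g | g ∈ Subgroup.normalizer (J S.XZ 3 7 : Set G) ∧ g * S.e 1 0 u * g⁻¹ * (S.e 1 0 u)⁻¹ ∈ J S.XZ 3 7}
      one_mem' := ⟨one_mem _, by simp⟩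
      mul_mem' := by
        rintro a b ⟨ha, ha'⟩ ⟨hb, hb'⟩
        refine ⟨mul_mem ha hb, ?_⟩
        have e : a * b * S.e 1 0 u * (a * b)⁻¹ * (S.e 1 0 u)⁻¹ =
            a * (b * S.e 1 0 u * b⁻¹ * (S.e 1 0 u)⁻¹) * a⁻¹ * (a * S.e 1 0 u * a⁻¹ * (S.e 1 0 u)⁻¹) := by group
        rw [e]
        exact mul_mem ((Subgroup.mem_normalizer_iff.1 ha _).1 hb') ha'
      inv_mem' := by
        rintro a ⟨ha, ha'⟩
        refine ⟨inv_mem ha, ?_⟩
        have e : a⁻¹ * S.e 1 0 u * a⁻¹⁻¹ * (S.e 1 0 u)⁻¹ =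
            a⁻¹ * (a * S.e 1 0 u * a⁻¹ * (S.e 1 0 u)⁻¹)⁻¹ * a⁻¹⁻¹ := by group
        rw [e]
        exact (Subgroup.mem_normalizer_iff.1 (inv_mem ha) _).1 (inv_mem ha') }
  have hn : J S.XZ 2 8 ≤ Subgroup.normalizer (J S.XZ 3 7 : Set G) := by
    have := Z8.le_normalizer (a := 3) (b := 7) (by norm_num)
    exact this
  obtain ⟨y, hy, x, hx, rfl⟩ := Z8.split_lr (a := 1) (b := 8) (by norm_num) (by norm_num) hb
  have hy' : y ∈ D := by
    have : J S.XZ 2 8 ≤ D := J_le fun k h3 h4 x hx => ⟨hn (mem_J hx h3 h4), h1 k (by omega) h4 x hx⟩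
    exact this hy
  obtain ⟨t, rfl⟩ := S.X1 hx
  have e1 : S.o 0 t * S.e 1 0 u = S.e 1 0 u * S.o 0 t := S.o_e1 0 t 0 u
  have h5 : y * S.e 1 0 u * y⁻¹ * (S.e 1 0 u)⁻¹ ∈ J S.XZ 3 7 := hy'.2
  have e2 : y * S.o 0 t * S.e 1 0 u * (y * S.o 0 t)⁻¹ * (S.e 1 0 u)⁻¹ = y * S.e 1 0 u * y⁻¹ * (S.e 1 0 u)⁻¹ := by
    rw [mul_assoc y, e1]; group
  rw [e2]
  exact h5

/-- `[J 1 8, Z_6] ≤ W46` -/
theorem comm_Z6' {b : G} (hb : b ∈ J S.XZ 1 8) (u : F) : ∃ v, b * S.e 3 0 u * b⁻¹ = S.e 2 0 v * S.e 3 0 u := by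
  have Z8 := S.zsys8
  obtain ⟨x, hx, y, hy, rfl⟩ := Z8.split_ll (a := 1) (b := 8) (by norm_num) (by norm_num) hb
  have h1 : y * S.e 3 0 u = S.e 3 0 u * y := S.W46_comm hy (S.Z6_W46 u)
  obtain ⟨t, rfl⟩ := S.X1 hx
  have r1 : S.o 0 t * S.e 3 0 u = S.e 3 0 u * S.o 0 t * S.e 1 0 (σ t * 0) * S.o 1 (t * σ 0) *
      S.e 2 0 (t * 0 * σ 0 + t * u) := S.o_e3 0 t 0 u
  rw [map_zero, mul_zero, mul_zero, mul_zero, zero_add, S.o_zero, S.e_zero, mul_one, mul_one] at r1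
  have r3 := S.comm_Z4 (k := 1) (by norm_num) (by norm_num) (S.mX1 t) (t * u)
  have r4 := S.comm_Z4 (k := 6) (by norm_num) (by norm_num) (S.mX6 0 u) (t * u)
  refine ⟨t * u, ?_⟩
  calc S.o 0 t * y * S.e 3 0 u * (S.o 0 t * y)⁻¹ = S.o 0 t * (y * S.e 3 0 u) * y⁻¹ * (S.o 0 t)⁻¹ := by group
    _ = (S.o 0 t * S.e 3 0 u) * (S.o 0 t)⁻¹ := by rw [h1]; group
    _ = S.e 3 0 u * (S.o 0 t * S.e 2 0 (t * u)) * (S.o 0 t)⁻¹ := by rw [r1]; group
    _ = S.e 3 0 u * S.e 2 0 (t * u) := by rw [r3]; group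
    _ = _ := r4

/-- `X_4 Q2` -/
def Q1 : Subgroup G := S.XZ 4 ⊔ S.Q2

theorem Q1_le_J : S.Q1 ≤ J S.XZ 2 6 := sup_le (X_le_J (by norm_num) (by norm_num)) S.Q2_le_J

/-- the relations for the generators of `Q2` with themselves and with `X_4` -/
theorem Q1_comm {x y : G} (hx : x ∈ S.Q1) (hy : y ∈ S.Q2) : x * y = y * x := by
  have key : ∀ x : G, (∀ u, x * S.e 1 0 u = S.e 1 0 u * x) → (∀ t, x * S.o 1 t = S.o 1 t * x) →
      (∀ u, x * S.e 2 0 u = S.e 2 0 u * x) → (∀ t, x * S.o 2 t = S.o 2 t * x) →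
      (∀ u, x * S.e 3 0 u = S.e 3 0 u * x) → x ∈ Subgroup.centralizer (S.Q2 : Set G) := by
    intro x h1 h2 h3 h4 h5
    have : S.Q2 ≤ Subgroup.centralizer {x} := by
      refine S.Q2_le ?_ ?_ ?_ ?_ ?_
      · intro u; rw [Subgroup.mem_centralizer_singleton_iff]; exact (h1 u).symm
      · intro u; rw [Subgroup.mem_centralizer_singleton_iff]; exact (h2 u).symm
      · intro u; rw [Subgroup.mem_centralizer_singleton_iff]; exact (h3 u).symm
      · intro u; rw [Subgroup.mem_centralizer_singleton_iff]; exact (h4 u).symm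
      · intro u; rw [Subgroup.mem_centralizer_singleton_iff]; exact (h5 u).symm
    rw [Subgroup.mem_centralizer_iff]
    intro y hy
    exact Subgroup.mem_centralizer_singleton_iff.1 (this hy)
  have c12 : ∀ u t, S.e 1 0 u * S.o 1 t = S.o 1 t * S.e 1 0 u := fun u t => S.e_o0 1 0 u t
  have c13 : ∀ u v, S.e 1 0 u * S.e 2 0 v = S.e 2 0 v * S.e 1 0 u := fun u v =>
    S.comm_Z4 (k := 2) (by norm_num) (by norm_num) (S.mX2 0 u) v
  have c14 : ∀ u t, S.e 1 0 u * S.o 2 t = S.o 2 t * S.e 1 0 u := fun u t => by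
    have : S.e 1 0 u * S.o 2 t = S.o 2 t * S.e 1 0 u * S.e 2 0 (0 * t) := S.e_o1 1 0 u t
    rwa [zero_mul, S.e_zero, mul_one] at this
  have c15 : ∀ u v, S.e 1 0 u * S.e 3 0 v = S.e 3 0 v * S.e 1 0 u := fun u v => S.e_e2 1 0 u 0 v
  have c23 : ∀ t p u, S.o 1 t * S.e 2 p u = S.e 2 p u * S.o 1 t := fun t p u => S.o_e1 1 t p u
  have c24 : ∀ t s, S.o 1 t * S.o 2 s = S.o 2 s * S.o 1 t := fun t s => S.o_o1 1 t s
  have c25 : ∀ t u, S.o 1 t * S.e 3 0 u = S.e 3 0 u * S.o 1 t := fun t u =>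
    S.comm_Z6 (k := 3) (by norm_num) (by norm_num) (S.mX3 t) u
  have c34 : ∀ p u s, S.e 2 p u * S.o 2 s = S.o 2 s * S.e 2 p u := fun p u s => S.e_o0 2 p u s
  have c35 : ∀ p u v, S.e 2 p u * S.e 3 0 v = S.e 3 0 v * S.e 2 p u := fun p u v =>
    S.comm_Z6 (k := 4) (by norm_num) (by norm_num) (S.mX4 p u) v
  have c45 : ∀ s v, S.o 2 s * S.e 3 0 v = S.e 3 0 v * S.o 2 s := fun s v =>
    S.comm_Z6 (k := 5) (by norm_num) (by norm_num) (S.mX5 s) v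
  have c1 : ∀ u p v, S.e 1 0 u * S.e 2 p v = S.e 2 p v * S.e 1 0 u := fun u p v => by
    have := S.e_e1 1 0 u p v
    rw [zero_mul, S.o_zero, mul_one] at this; exact this
  have cZ : ∀ a u v, S.e a 0 u * S.e a 0 v = S.e a 0 v * S.e a 0 u := fun a u v => by
    rw [S.e_mul, S.e_mul, add_comm u v]
  have cO : ∀ a t s, S.o a t * S.o a s = S.o a s * S.o a t := fun a t s => by
    rw [S.o_add, S.o_add, add_comm]
  have cE : ∀ a p u v, S.e a p u * S.e a 0 v = S.e a 0 v * S.e a p u := fun a p u v => by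
    rw [S.e_mul, S.e_mul, map_zero, mul_zero, zero_mul, add_zero, add_zero, add_zero, zero_add, add_comm]
  have hle : S.Q1 ≤ Subgroup.centralizer (S.Q2 : Set G) := by
    refine sup_le ?_ (S.Q2_le ?_ ?_ ?_ ?_ ?_)
    · intro x hx
      obtain ⟨p, w, rfl⟩ := S.X4 hx
      exact key _ (fun u => (c1 u p w).symm) (fun t => (c23 t p w).symm) (fun u => cE 2 p w u) (fun t => c34 p w t)
        (fun u => c35 p w u)
    · intro a
      exact key _ (fun u => cZ 1 a u) (fun t => c12 a t) (fun u => c13 a u) (fun t => c14 a t) (fun u => c15 a u)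
    · intro a
      exact key _ (fun u => (c12 u a).symm) (fun t => cO 1 a t) (fun u => c23 a 0 u) (fun t => c24 a t) (fun u => c25 a u)
    · intro a
      exact key _ (fun u => (c13 u a).symm) (fun t => (c23 t 0 a).symm) (fun u => cZ 2 a u) (fun t => c34 0 a t)
        (fun u => c35 0 a u)
    · intro a
      exact key _ (fun u => (c14 u a).symm) (fun t => (c24 t a).symm) (fun u => (c34 0 u a).symm) (fun t => cO 2 a t)
        (fun u => c45 a u)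
    · intro a
      exact key _ (fun u => (c15 u a).symm) (fun t => (c25 t a).symm) (fun u => (c35 0 u a).symm) (fun t => (c45 t a).symm)
        (fun u => cZ 3 a u)
  exact ((Subgroup.mem_centralizer_iff.1 (hle hx)) y hy).symm

/-- elements of `J 1 8` commuting with `Q2` -/
theorem form_Q1 {b : G} (hb : b ∈ J S.XZ 1 8) (hc : ∀ x ∈ S.Q2, b * x = x * b) :
    ∃ u v, ∃ r ∈ J S.XZ 3 5, b = S.e 1 0 u * r * S.e 3 0 v := by
  have Z8 := S.zsys8
  -- the component in `X_1`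
  have hb1 : b ∈ J S.XZ 1 6 := by
    obtain ⟨y, hy, x, hx, rfl⟩ := Z8.split_lr (a := 1) (b := 8) (by norm_num) (by norm_num) hb
    have h0 := hc _ (S.q2_1 1)
    obtain ⟨t, rfl⟩ := S.X1 hx
    have e1 : S.o 0 t * S.e 1 0 1 = S.e 1 0 1 * S.o 0 t := S.o_e1 0 t 0 1
    have h1 : y * S.e 1 0 1 = S.e 1 0 1 * y := by
      have : y * S.e 1 0 1 * S.o 0 t = S.e 1 0 1 * y * S.o 0 t := by
        calc y * S.e 1 0 1 * S.o 0 t = y * (S.e 1 0 1 * S.o 0 t) := by group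
          _ = y * S.o 0 t * S.e 1 0 1 := by rw [← e1]; group
          _ = _ := by rw [h0]; group
      exact mul_right_cancel this
    have h2 := Z8.comm_top (k := 2) (b := 8) (r := 4) (by norm_num) (by norm_num) (h := S.e 1 0 1) (w := y) (S.mX2 0 1)
      (fun h => one_ne_zero (S.e_eq_one h).2) hy h1
    exact mul_mem (J_mono (by norm_num) (by norm_num) h2) (mem_J (S.mX1 t) (by norm_num) (by norm_num))
  have hb2 : b ∈ J S.XZ 2 6 := by
    have := Z8.comm_bot (k := 6) (a := 1) (r := 4) (by norm_num) (by norm_num) (h := S.e 3 0 1) (w := b) (S.mX6 0 1)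
      (fun h => one_ne_zero (S.e_eq_one h).2) hb1 (hc _ (S.q2_5 1))
    exact this
  obtain ⟨x2, hx2, r, hr, rfl⟩ := Z8.split_ll (a := 2) (b := 6) (by norm_num) (by norm_num) hb2
  obtain ⟨r, hr1, x6, hx6, rfl⟩ := Z8.split_rr (a := 2 + 1) (b := 6) (by norm_num) (by norm_num) hr
  have hr2 : r ∈ J S.XZ 3 5 := hr1
  obtain ⟨p, u, rfl⟩ := S.X2 hx2
  obtain ⟨q, v, rfl⟩ := S.X6 hx6
  -- `r` commutes with `X_3` and `X_5`
  have c5 : r * S.o 2 1 = S.o 2 1 * r :=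
    S.mem_centralizer_X5.1 (S.J37_le (J_mono (by norm_num) (by norm_num) hr2)).2 1
  have c3 : r * S.o 1 1 = S.o 1 1 * r := by
    have : J S.XZ 3 5 ≤ Subgroup.centralizer {S.o 1 1} := J_le fun k h1 h2 x hx => by
      rw [Subgroup.mem_centralizer_singleton_iff]
      interval_cases k
      · obtain ⟨t, rfl⟩ := S.X3 hx
        rw [S.o_add, S.o_add, add_comm]
      · obtain ⟨p, u, rfl⟩ := S.X4 hx
        exact (S.o_e1 1 1 p u).symm
      · obtain ⟨t, rfl⟩ := S.X5 hx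
        exact (S.o_o1 1 1 t).symm
    exact Subgroup.mem_centralizer_singleton_iff.1 (this hr2)
  have c65 : S.e 3 q v * S.o 2 1 = S.o 2 1 * S.e 3 q v := (S.o_e1 2 1 q v).symm
  have hp : p = 0 := by
    have h1 := hc _ (S.q2_4 1)
    have r1 : S.e 1 p u * S.o 2 1 = S.o 2 1 * S.e 1 p u * S.e 2 0 (p * 1) := S.e_o1 1 p u 1
    have e1 : S.e 1 p u * (r * S.e 3 q v) * S.o 2 1 = (S.e 1 p u * S.o 2 1) * (r * S.e 3 q v) := by
      calc S.e 1 p u * (r * S.e 3 q v) * S.o 2 1 = S.e 1 p u * r * (S.e 3 q v * S.o 2 1) := by group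
        _ = S.e 1 p u * (r * S.o 2 1) * S.e 3 q v := by rw [c65]; group
        _ = _ := by rw [c5]; group
    rw [e1, ← mul_assoc (S.o 2 1)] at h1
    have h2 : S.e 1 p u * S.o 2 1 = S.o 2 1 * S.e 1 p u := by
      have := mul_right_cancel (b := r * S.e 3 q v) h1
      exact this
    rw [r1] at h2
    have h3 : S.e 2 0 (p * 1) = 1 := mul_eq_left.1 h2
    have := (S.e_eq_one h3).2
    rwa [mul_one] at this
  subst hp
  have hq : q = 0 := by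
    have h1 := hc _ (S.q2_2 1)
    have r1 : S.o 1 1 * S.e 3 q v = S.e 3 q v * S.o 1 1 * S.e 2 0 (1 * q) := S.o_e2 1 1 q v
    have r2 : S.e 1 0 u * S.o 1 1 = S.o 1 1 * S.e 1 0 u := S.e_o0 1 0 u 1
    have e1 : S.o 1 1 * (S.e 1 0 u * (r * S.e 3 q v)) = S.e 1 0 u * r * (S.o 1 1 * S.e 3 q v) := by
      calc S.o 1 1 * (S.e 1 0 u * (r * S.e 3 q v)) = (S.o 1 1 * S.e 1 0 u) * r * S.e 3 q v := by group
        _ = S.e 1 0 u * (S.o 1 1 * r) * S.e 3 q v := by rw [← r2]; group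
        _ = _ := by rw [← c3]; group
    rw [e1, r1] at h1
    have h2 : S.e 1 0 u * (r * S.e 3 q v) * S.o 1 1 = S.e 1 0 u * r * (S.e 3 q v * S.o 1 1) := by group
    rw [h2] at h1
    have h3 := mul_left_cancel h1
    have h4 : S.e 2 0 (1 * q) = 1 := mul_eq_left.1 h3.symm
    have := (S.e_eq_one h4).2
    rwa [one_mul] at this
  subst hq
  exact ⟨u, v, r, hr2, by group⟩

/-- **`C(Q2) = Q1`** -/
theorem centralizer_Q2 : Subgroup.centralizer (S.Q2 : Set G) = S.Q1 := by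
  have Z8 := S.zsys8
  apply le_antisymm
  · intro g hg
    rw [Subgroup.mem_centralizer_iff] at hg
    have hg' : ∀ x ∈ S.Q2, g * x = x * g := fun x hx => (hg x hx).symm
    have hz : S.e 2 0 1 ∈ S.Zc 2 := ⟨1, rfl⟩
    have hz1 : S.e 2 0 1 ≠ 1 := fun h => one_ne_zero (S.e_eq_one h).2
    have h1 : g * S.e 2 0 1 * g⁻¹ ∈ S.Zc 2 := by rw [hg' _ (S.q2_3 1), mul_inv_cancel_right]; exact hz
    obtain ⟨b, hb, t, ht, rfl | ⟨b', hb', rfl⟩⟩ := S.form_of_conj hz hz1 h1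
    · have key : ∀ x ∈ S.Q2, t * x * t⁻¹ = b⁻¹ * x * b := by
        intro x hx
        have h2 := hg' x hx
        calc t * x * t⁻¹ = b⁻¹ * ((b * t) * x) * t⁻¹ := by group
          _ = _ := by rw [h2]; group
      have k2 : t * S.e 1 0 1 * t⁻¹ * (S.e 1 0 1)⁻¹ = 1 := by
        have h3 := S.comm_Z2 (inv_mem hb) 1
        rw [inv_inv, ← key _ (S.q2_1 1)] at h3
        exact Z8.inter 2 _ (mul_mem (S.T_conj ht 2 (S.mX2 0 1)) (inv_mem (S.mX2 0 1))) (J_mono le_rfl (by norm_num) h3)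
      have k6 : t * S.e 3 0 1 * t⁻¹ * (S.e 3 0 1)⁻¹ = 1 := by
        obtain ⟨v, hv⟩ := S.comm_Z6' (inv_mem hb) 1
        rw [inv_inv, ← key _ (S.q2_5 1)] at hv
        have h4 : t * S.e 3 0 1 * t⁻¹ * (S.e 3 0 1)⁻¹ ∈ S.XZ 4 := by
          rw [hv, mul_inv_cancel_right]; exact S.mX4 0 v
        exact S.X_inf_near (i := 4) (j := 6) (by norm_num) (by norm_num) h4
          (mul_mem (S.T_conj ht 6 (S.mX6 0 1)) (inv_mem (S.mX6 0 1)))
      rw [mul_inv_eq_one] at k2 k6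
      obtain ⟨c, d, rfl⟩ := S.mem_T.1 ht
      rw [S.h_e, mul_zero, mul_one] at k2 k6
      have c2 : chE σ 1 c d = 1 := S.unit_eq_one (Units.ext (S.injE 1 _ _ _ _ k2).2)
      have c6 : chE σ 3 c d = 1 := S.unit_eq_one (Units.ext (S.injE 3 _ _ _ _ k6).2)
      rw [chE_one] at c2
      rw [chE_three, c2, one_div, inv_eq_one] at c6
      have hc : c = 1 := by
        apply Units.ext
        apply σ.injective
        rw [Units.val_one, map_one]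
        exact congrArg Units.val c6
      rw [hc, c2, S.h_one, mul_one] at hg'
      rw [hc, c2, S.h_one, mul_one]
      obtain ⟨u, v, r, hr, rfl⟩ := S.form_Q1 hb hg'
      refine mul_mem (mul_mem (Subgroup.mem_sup_right (S.q2_1 u)) ?_) (Subgroup.mem_sup_right (S.q2_5 v))
      have : J S.XZ 3 5 ≤ S.Q1 := J_le fun k h1 h2 x hx => by
        interval_cases k
        · obtain ⟨t, rfl⟩ := S.X3 hx
          exact Subgroup.mem_sup_right (S.q2_2 t)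
        · exact Subgroup.mem_sup_left hx
        · obtain ⟨t, rfl⟩ := S.X5 hx
          exact Subgroup.mem_sup_right (S.q2_4 t)
      exact this hr
    · exfalso
      have hbP : b ∈ S.PL := J_mono (by norm_num) le_rfl hb
      have h2 : (t * S.n2) * (b' * b * S.e 1 0 1 * (b' * b)⁻¹) * (t * S.n2)⁻¹ = S.e 1 0 1 := by
        have h3 := hg' _ ((Subgroup.mem_normalizer_iff.1 (S.Q2_norm hbP) _).1 (S.q2_1 1))
        calc (t * S.n2) * (b' * b * S.e 1 0 1 * (b' * b)⁻¹) * (t * S.n2)⁻¹ =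
            b⁻¹ * ((b * (t * S.n2) * b') * (b * S.e 1 0 1 * b⁻¹)) * (b * (t * S.n2) * b')⁻¹ * b := by group
          _ = _ := by rw [h3]; group
      have h4 := S.comm_Z2 (mul_mem hb' hb) 1
      have h5 : b' * b * S.e 1 0 1 * (b' * b)⁻¹ = S.n2⁻¹ * (t⁻¹ * S.e 1 0 1 * t) * S.n2 := by
        have : b' * b * S.e 1 0 1 * (b' * b)⁻¹ =
            (t * S.n2)⁻¹ * ((t * S.n2) * (b' * b * S.e 1 0 1 * (b' * b)⁻¹) * (t * S.n2)⁻¹) * (t * S.n2) := by group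
        rw [this, h2]; group
      rw [h5] at h4
      have h6 : S.n2⁻¹ * (t⁻¹ * S.e 1 0 1 * t) * S.n2 ∈ S.XZ 6 :=
        S.n2_refl.mem_inv (S.T_conj' ht 2 (S.mX2 0 1)) (by norm_num)
      have h7 : S.e 1 0 1 ∈ J S.XZ 3 7 := by
        have e1 : S.e 1 0 1 = (S.n2⁻¹ * (t⁻¹ * S.e 1 0 1 * t) * S.n2 * (S.e 1 0 1)⁻¹)⁻¹ *
            (S.n2⁻¹ * (t⁻¹ * S.e 1 0 1 * t) * S.n2) := by group
        rw [e1]
        exact mul_mem (inv_mem h4) (mem_J h6 (by norm_num) (by norm_num))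
      have h8 := Z8.inter 2 _ (S.mX2 0 1) (J_mono le_rfl (by norm_num) h7)
      exact one_ne_zero (S.e_eq_one h8).2
  · intro g hg
    rw [Subgroup.mem_centralizer_iff]
    intro x hx
    exact (S.Q1_comm hg hx).symm

/-! ### the centraliser of `NO` -/

/-- `Z_4 X_5 Z_6` -/
def V5 : Subgroup G := S.W46 ⊔ S.XZ 5

theorem mem_V5 {g : G} : g ∈ S.V5 ↔ ∃ u s v, S.e 2 0 u * S.o 2 s * S.e 3 0 v = g := by
  constructor
  · intro hg
    obtain ⟨a, ha, b, hb, rfl⟩ := mem_sup_of_norm (A := S.W46) (B := S.XZ 5) (fun a ha b hb => by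
      have h1 := S.W46_comm (mem_J hb (by norm_num) (by norm_num)) ha
      rw [← h1, mul_inv_cancel_right]; exact hb) hg
    obtain ⟨u, v, rfl⟩ := ha
    obtain ⟨s, rfl⟩ := S.X5 hb
    refine ⟨u, s, v, ?_⟩
    have h := S.comm_Z6 (k := 5) (by norm_num) (by norm_num) (S.mX5 s) v
    rw [mul_assoc, h, mul_assoc]
  · rintro ⟨u, s, v, rfl⟩
    exact mul_mem (mul_mem (Subgroup.mem_sup_left (S.Z4_W46 u)) (Subgroup.mem_sup_right (S.mX5 s)))
      (Subgroup.mem_sup_left (S.Z6_W46 v))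

theorem Q2_le_NO : S.Q2 ≤ S.NO :=
  S.Q2_le S.Z2_NO (fun t => S.J37_le (mem_J (S.mX3 t) (by norm_num) (by norm_num)))
    (fun u => S.J37_le (mem_J (S.mX4 0 u) (by norm_num) (by norm_num)))
    (fun t => S.J37_le (mem_J (S.mX5 t) (by norm_num) (by norm_num)))
    (fun u => S.J37_le (mem_J (S.mX6 0 u) (by norm_num) (by norm_num)))

theorem V5_le_NO : S.V5 ≤ S.NO :=
  sup_le (by
    rintro _ ⟨u, v, rfl⟩
    exact mul_mem (S.J37_le (mem_J (S.mX4 0 u) (by norm_num) (by norm_num)))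
      (S.J37_le (mem_J (S.mX6 0 v) (by norm_num) (by norm_num))))
    (fun x hx => S.J37_le (mem_J hx (by norm_num) (by norm_num)))

/-- `NO` is normalised by `n1` -/
theorem n1_NO {x : G} (hx : x ∈ S.NO) : S.n1 * x * S.n1⁻¹ ∈ S.NO := by
  refine ⟨S.n1_refl.mem_J hx.1 (by norm_num) (by norm_num), ?_⟩
  refine S.mem_centralizer_X5.2 fun s => ?_
  have h := S.mem_centralizer_X5.1 hx.2 s
  have h1 : S.n1 * S.o 2 s * S.n1⁻¹ = S.o 2 s := S.n1_o 2 s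
  calc S.n1 * x * S.n1⁻¹ * S.o 2 s = S.n1 * x * S.n1⁻¹ * (S.n1 * S.o 2 s * S.n1⁻¹) := by rw [h1]
    _ = S.n1 * (x * S.o 2 s) * S.n1⁻¹ := by group
    _ = (S.n1 * S.o 2 s * S.n1⁻¹) * (S.n1 * x * S.n1⁻¹) := by rw [h]; group
    _ = _ := by rw [h1]

/-- **`C(NO) = Z_4 X_5 Z_6`** -/
theorem centralizer_NO : Subgroup.centralizer (S.NO : Set G) = S.V5 := by
  have Z8 := S.zsys8
  apply le_antisymm
  · intro g hg
    have h1 : g ∈ S.Q1 := by
      rw [← S.centralizer_Q2]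
      exact Subgroup.centralizer_le S.Q2_le_NO hg
    -- conjugate by `n1`
    have h2 : S.n1 * g * S.n1⁻¹ ∈ S.Q1 := by
      rw [← S.centralizer_Q2, Subgroup.mem_centralizer_iff]
      intro y hy
      rw [Subgroup.mem_centralizer_iff] at hg
      have h3 := hg _ (S.n1_NO (S.Q2_le_NO hy))
      have h4 : S.n1 * (S.n1 * y * S.n1⁻¹) * S.n1⁻¹ = y := by
        calc S.n1 * (S.n1 * y * S.n1⁻¹) * S.n1⁻¹ = (S.n1 * S.n1) * y * (S.n1 * S.n1)⁻¹ := by group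
          _ = y := by rw [S.n1_sq]; group
      calc y * (S.n1 * g * S.n1⁻¹) = (S.n1 * (S.n1 * y * S.n1⁻¹) * S.n1⁻¹) * (S.n1 * g * S.n1⁻¹) := by rw [h4]
        _ = S.n1 * ((S.n1 * y * S.n1⁻¹) * g) * S.n1⁻¹ := by group
        _ = (S.n1 * g * S.n1⁻¹) * (S.n1 * (S.n1 * y * S.n1⁻¹) * S.n1⁻¹) := by rw [h3]; group
        _ = _ := by rw [h4]
    have h5 : g ∈ J S.XZ 4 8 := by
      have h6 := S.n1_refl.mem_J (a' := 4) (b' := 8) (S.Q1_le_J h2) (by norm_num) (by norm_num)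
      have e : S.n1 * (S.n1 * g * S.n1⁻¹) * S.n1⁻¹ = g := by
        calc S.n1 * (S.n1 * g * S.n1⁻¹) * S.n1⁻¹ = (S.n1 * S.n1) * g * (S.n1 * S.n1)⁻¹ := by group
          _ = g := by rw [S.n1_sq]; group
      rwa [e] at h6
    have h7 : g ∈ J S.XZ 4 6 := Z8.inter_J 2 (S.Q1_le_J h1) h5 (by norm_num) (by norm_num) (by norm_num) (by norm_num)
      (Or.inr le_rfl) (Or.inl le_rfl)
    obtain ⟨x4, hx4, r, hr, rfl⟩ := Z8.split_ll (a := 4) (b := 6) (by norm_num) (by norm_num) h7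
    obtain ⟨r, hr1, x6, hx6, rfl⟩ := Z8.split_rr (a := 4 + 1) (b := 6) (by norm_num) (by norm_num) hr
    have hr2 : r ∈ S.XZ 5 := mem_of_J_self hr1 (by norm_num)
    obtain ⟨p, u, rfl⟩ := S.X4 hx4
    obtain ⟨s, rfl⟩ := S.X5 hr2
    obtain ⟨q, v, rfl⟩ := S.X6 hx6
    rw [Subgroup.mem_centralizer_iff] at hg
    -- commute with `X_7`
    have hp : p = 0 := by
      have h8 := hg _ (S.J37_le (mem_J (S.mX7 1) (by norm_num) (by norm_num)))
      have r1 : S.e 2 p u * S.o 3 1 = S.o 3 1 * S.e 2 p u * S.e 3 0 (p * 1) := S.e_o1 2 p u 1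
      have r2 : S.o 2 s * S.o 3 1 = S.o 3 1 * S.o 2 s := S.o_o1 2 s 1
      have r3 : S.e 3 q v * S.o 3 1 = S.o 3 1 * S.e 3 q v := S.e_o0 3 q v 1
      have e1 : S.e 2 p u * (S.o 2 s * S.e 3 q v) * S.o 3 1 =
          (S.e 2 p u * S.o 3 1) * (S.o 2 s * S.e 3 q v) := by
        calc S.e 2 p u * (S.o 2 s * S.e 3 q v) * S.o 3 1 = S.e 2 p u * S.o 2 s * (S.e 3 q v * S.o 3 1) := by group
          _ = S.e 2 p u * (S.o 2 s * S.o 3 1) * S.e 3 q v := by rw [r3]; group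
          _ = _ := by rw [r2]; group
      rw [e1, ← mul_assoc (S.o 3 1)] at h8
      have h9 := mul_right_cancel h8
      rw [r1] at h9
      have h10 : S.e 3 0 (p * 1) = 1 := mul_eq_left.1 h9.symm
      have := (S.e_eq_one h10).2
      rwa [mul_one] at this
    subst hp
    have hq : q = 0 := by
      have h8 := hg _ (S.J37_le (mem_J (S.mX3 1) (by norm_num) (by norm_num)))
      have r1 : S.o 1 1 * S.e 3 q v = S.e 3 q v * S.o 1 1 * S.e 2 0 (1 * q) := S.o_e2 1 1 q v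
      have r2 : S.o 1 1 * S.e 2 0 u = S.e 2 0 u * S.o 1 1 := S.o_e1 1 1 0 u
      have r3 : S.o 1 1 * S.o 2 s = S.o 2 s * S.o 1 1 := S.o_o1 1 1 s
      have e1 : S.o 1 1 * (S.e 2 0 u * (S.o 2 s * S.e 3 q v)) = S.e 2 0 u * S.o 2 s * (S.o 1 1 * S.e 3 q v) := by
        calc S.o 1 1 * (S.e 2 0 u * (S.o 2 s * S.e 3 q v)) = (S.o 1 1 * S.e 2 0 u) * S.o 2 s * S.e 3 q v := by group
          _ = S.e 2 0 u * (S.o 1 1 * S.o 2 s) * S.e 3 q v := by rw [r2]; group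
          _ = _ := by rw [r3]; group
      rw [e1, r1] at h8
      have e2 : S.e 2 0 u * (S.o 2 s * S.e 3 q v) * S.o 1 1 = S.e 2 0 u * S.o 2 s * (S.e 3 q v * S.o 1 1) := by group
      rw [e2] at h8
      have h9 := mul_left_cancel h8
      have h10 : S.e 2 0 (1 * q) = 1 := mul_eq_left.1 h9
      have := (S.e_eq_one h10).2
      rwa [one_mul] at this
    subst hq
    exact S.mem_V5.2 ⟨u, s, v, by group⟩
  · intro g hg
    rw [Subgroup.mem_centralizer_iff]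
    intro x hx
    have : S.V5 ≤ Subgroup.centralizer {x} := by
      refine sup_le (fun w hw => ?_) (fun y hy => ?_)
      · rw [Subgroup.mem_centralizer_singleton_iff]
        exact (S.W46_comm hx.1 hw).symm
      · rw [Subgroup.mem_centralizer_singleton_iff]
        obtain ⟨s, rfl⟩ := S.X5 hy
        exact (S.mem_centralizer_X5.1 hx.2 s).symm
    exact (Subgroup.mem_centralizer_singleton_iff.1 (this hg)).symm

/-- **`Z(HO) = X_5`** -/
theorem center_HO {g : G} (hg : g ∈ S.HO) (hc : ∀ x ∈ S.HO, g * x = x * g) : g ∈ S.XZ 5 := by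
  have h1 : g ∈ S.V5 := by
    rw [← S.centralizer_NO, Subgroup.mem_centralizer_iff]
    intro x hx
    exact (hc x (Subgroup.mem_sup_right hx)).symm
  obtain ⟨u, s, v, rfl⟩ := S.mem_V5.1 h1
  have hv : v = 0 := by
    have h2 := hc _ (Subgroup.mem_sup_left (Subgroup.mem_sup_left (S.mX1 1)))
    have r1 : S.o 0 1 * S.e 3 0 v = S.e 3 0 v * S.o 0 1 * S.e 1 0 (σ 1 * 0) * S.o 1 (1 * σ 0) *
        S.e 2 0 (1 * 0 * σ 0 + 1 * v) := S.o_e3 0 1 0 v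
    rw [map_zero, mul_zero, mul_zero, mul_zero, zero_add, S.o_zero, S.e_zero, mul_one, mul_one, one_mul] at r1
    have r2 : S.o 0 1 * S.e 2 0 u = S.e 2 0 u * S.o 0 1 := S.comm_Z4 (k := 1) (by norm_num) (by norm_num) (S.mX1 1) u
    have r3 : S.o 0 1 * S.o 2 s = S.o 2 s * S.o 0 1 := S.o_o2 0 1 s
    have e1 : S.o 0 1 * (S.e 2 0 u * S.o 2 s * S.e 3 0 v) = S.e 2 0 u * S.o 2 s * (S.o 0 1 * S.e 3 0 v) := by
      calc S.o 0 1 * (S.e 2 0 u * S.o 2 s * S.e 3 0 v) = (S.o 0 1 * S.e 2 0 u) * S.o 2 s * S.e 3 0 v := by group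
        _ = S.e 2 0 u * (S.o 0 1 * S.o 2 s) * S.e 3 0 v := by rw [r2]; group
        _ = _ := by rw [r3]; group
    rw [e1, r1, mul_assoc (S.e 2 0 u * S.o 2 s)] at h2
    have h3 := mul_left_cancel h2
    have h4 : S.e 2 0 v = 1 := mul_eq_left.1 h3.symm
    exact (S.e_eq_one h4).2
  subst hv
  have hu : u = 0 := by
    have h2 := hc _ (Subgroup.mem_sup_left (Subgroup.mem_sup_right (S.mX9 1)))
    have r1 : S.e 2 0 u * S.o 4 1 = S.o 4 1 * S.e 2 0 u * S.e 3 0 (0 * σ 0 * 1 + u * 1) * S.o 3 (σ 0 * 1) * S.e 4 0 (0 * σ 1) :=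
      S.e_o2 2 0 u 1
    rw [map_zero, zero_mul, zero_mul, zero_mul, zero_add, S.o_zero, S.e_zero, mul_one, mul_one, mul_one] at r1
    have r3 : S.o 2 s * S.o 4 1 = S.o 4 1 * S.o 2 s := S.o_o2 2 s 1
    rw [S.e_zero, mul_one] at h2
    have e1 : S.e 2 0 u * S.o 2 s * S.o 4 1 = (S.e 2 0 u * S.o 4 1) * S.o 2 s := by
      rw [mul_assoc, r3]; group
    rw [e1, ← mul_assoc (S.o 4 1)] at h2
    have h3 := mul_right_cancel h2
    rw [r1] at h3
    have h4 : S.e 3 0 u = 1 := mul_eq_left.1 h3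
    exact (S.e_eq_one h4).2
  subst hu
  rw [S.e_zero, S.e_zero, one_mul, mul_one]
  exact S.mX5 s

/-- **`Z(PL) = Z_4`** -/
theorem center_PL {g : G} (hc : ∀ x ∈ S.PL, g * x = x * g) : g ∈ S.Zc 2 := by
  rw [← S.centralizer_Q, Subgroup.mem_centralizer_iff]
  intro x hx
  exact (hc x (J_mono (by norm_num) (by norm_num) hx)).symm

end Full

end Cfsg.Agent.KFacts.TwF4
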