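import Cfsg.Agent.KFacts.TwF4.Inv
set_option linter.all false

/-!
# `U = J 1 8` is a Sylow 2-subgroup of `²F₄(q)`, `q ≥ 8`; the classes of involutions
-/

set_option autoImplicit false

namespace Cfsg.Agent.KFacts.TwF4.SylU

open Cfsg.Agent.SplitTwo Cfsg.Agent.SplitTwo.ZS Cfsg.Agent.TitsThree.RankTwoZ Cfsg.Agent.KFacts.TwF4.Arc
open Cfsg.Agent.KFacts.TwF4.Inv
open scoped Pointwise

universe u

variable {F : Type*} [Field F] {σ : F →+* F} {G : Type u} [Group G] (S : Full σ G)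

include S in
theorem unit_sq {x : Fˣ} (h : x * x = 1) : x = 1 := by
  by_contra hx
  exact ne_two S (r := 2) (by rw [pow_two]; exact h) hx rfl

include S in
theorem unit_pow : ∀ (k : ℕ) {x : Fˣ}, x ^ (2 ^ k) = 1 → x = 1 := by
  intro k
  induction k with
  | zero => intro x h; simpa using h
  | succ k ih =>
    intro x h
    rw [pow_succ, pow_mul, pow_two] at h
    exact ih (unit_sq S h)

/-- a 2-element of the torus is trivial -/
theorem torus_two {c d : Fˣ} {k : ℕ} (h : S.h c d ^ (2 ^ k) = 1) : c = 1 ∧ d = 1 := by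
  rw [h_pow, ← S.h_one] at h
  obtain ⟨h1, h2⟩ := S.h_inj _ _ _ _ h
  exact ⟨unit_pow S k h1, unit_pow S k h2⟩

variable [Finite F]

/-- the normaliser of `U` -/
theorem norm_U [Finite G] (hF : ∃ c : Fˣ, c ≠ 1) (hR : S.R.p = 2) {g : G}
    (hg : ∀ x, x ∈ J S.XZ 1 8 ↔ g * x * g⁻¹ ∈ J S.XZ 1 8) :
    ∃ b ∈ J S.XZ 1 8, ∃ t ∈ S.T, g = b * t := by
  have Z := S.zsys8
  -- `g` normalises `Z_4`
  have hz0 : S.e 2 0 1 ∈ S.Zc 2 := S.mem_Zc.2 ⟨1, rfl⟩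
  have hz1 : S.e 2 0 1 ≠ 1 := fun h => one_ne_zero (S.e_eq_one h).2
  have hcomm : ∀ x ∈ J S.XZ 1 8, x * S.e 2 0 1 = S.e 2 0 1 * x := fun x hx =>
    S.comm_PL (J_mono (by norm_num) le_rfl hx) hz0
  have hzc : g * S.e 2 0 1 * g⁻¹ ∈ S.Zc 2 := by
    rw [← S.centralizer_Q, Subgroup.mem_centralizer_iff]
    intro x hx
    have hxU : x ∈ J S.XZ 1 8 := J_mono le_rfl (by norm_num) hx
    have h1 : g⁻¹ * x * g ∈ J S.XZ 1 8 := by
      rw [hg]
      have e : g * (g⁻¹ * x * g) * g⁻¹ = x := by group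
      rw [e]; exact hxU
    have h2 := hcomm _ h1
    calc x * (g * S.e 2 0 1 * g⁻¹) = g * ((g⁻¹ * x * g) * S.e 2 0 1) * g⁻¹ := by group
      _ = g * (S.e 2 0 1 * (g⁻¹ * x * g)) * g⁻¹ := by rw [h2]
      _ = _ := by group
  obtain ⟨b, hb, t, ht, h | ⟨b', hb', h⟩⟩ := S.form_of_conj hz0 hz1 hzc
  · exact ⟨b, hb, t, ht, h⟩
  · exfalso
    -- `n2` normalises `U`
    have hn2 : ∀ x ∈ J S.XZ 1 8, S.n2 * x * S.n2⁻¹ ∈ J S.XZ 1 8 := by
      intro x hx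
      have e : S.n2 * x * S.n2⁻¹ = t⁻¹ * (b⁻¹ * (g * (b'⁻¹ * x * b') * g⁻¹) * b) * t := by rw [h]; group
      rw [e]
      have h1 : b'⁻¹ * x * b' ∈ J S.XZ 1 8 := mul_mem (mul_mem (inv_mem hb') hx) hb'
      have h2 := (hg _).1 h1
      have h3 : b⁻¹ * (g * (b'⁻¹ * x * b') * g⁻¹) * b ∈ J S.XZ 1 8 := mul_mem (mul_mem (inv_mem hb) h2) hb
      have h4 := S.T_conj_J (inv_mem ht) h3
      rwa [inv_inv] at h4
    have h8 : S.XZ 8 ≤ J S.XZ 1 8 := X_le_J (by norm_num) le_rfl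
    have h0 : S.XZ 0 ≤ J S.XZ 1 8 := by
      intro x hx
      have h1 := S.n2_refl.mem_inv (k := 8) hx (by norm_num)
      have h2 := hn2 _ (h8 h1)
      have e : S.n2 * (S.n2⁻¹ * x * S.n2) * S.n2⁻¹ = x := by group
      rwa [e] at h2
    have hn2U : S.n2 ∈ J S.XZ 1 8 := n2_mem_of S h0 h8
    obtain ⟨c, hc⟩ := hF
    have h1 : S.h c (Units.map (σ : F →* F) c) * S.n2 * (S.h c (Units.map (σ : F →* F) c))⁻¹ * S.n2⁻¹ ∈ J S.XZ 1 8 :=
      mul_mem (h_J S _ _ hn2U) (inv_mem hn2U)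
    have e1 : S.h c (Units.map (σ : F →* F) c) * S.n2 * (S.h c (Units.map (σ : F →* F) c))⁻¹ * S.n2⁻¹ =
        S.h c (Units.map (σ : F →* F) c) * (S.n2 * (S.h c (Units.map (σ : F →* F) c))⁻¹ * S.n2⁻¹) := by group
    rw [e1, S.h_inv, S.n2_h, S.h_mul, inv_inv] at h1
    have hU2 : IsPGroup 2 (J S.XZ 1 8) := isPGroup_J Z (two_X S hR) 8 1 8 (by norm_num) (by norm_num)
    obtain ⟨k, hk⟩ := hU2 ⟨_, h1⟩
    have hk' : (S.h (c * c) (Units.map (σ : F →* F) c * ((Units.map (σ : F →* F) c)⁻¹ /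
        Units.map (σ : F →* F) c⁻¹))) ^ (2 ^ k) = 1 := by
      have := congrArg Subtype.val hk
      simpa using this
    exact hc (unit_sq S (torus_two S hk').1)

/-- **`U` is a Sylow 2-subgroup** -/
theorem exists_sylow [Finite G] (hF : ∃ c : Fˣ, c ≠ 1) (hR : S.R.p = 2) :
    ∃ P : Sylow 2 G, (P : Subgroup G) = J S.XZ 1 8 := by
  have Z := S.zsys8
  have hU2 : IsPGroup 2 (J S.XZ 1 8) := isPGroup_J Z (two_X S hR) 8 1 8 (by norm_num) (by norm_num)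
  obtain ⟨P, hP⟩ := hU2.exists_le_sylow
  refine ⟨P, ?_⟩
  by_contra hne
  have hlt : J S.XZ 1 8 < (P : Subgroup G) := lt_of_le_of_ne hP (fun h => hne h.symm)
  have hfact : Fact (Nat.Prime 2) := ⟨Nat.prime_two⟩
  -- normaliser condition
  have hnil : Group.IsNilpotent (P : Subgroup G) := P.2.isNilpotent
  have hnc := (Group.normalizerCondition_of_isNilpotent (G := (P : Subgroup G))) ((J S.XZ 1 8).subgroupOf P)
    (lt_top_iff_ne_top.2 fun h => by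
      rw [Subgroup.subgroupOf_eq_top] at h
      exact absurd h (not_le_of_gt hlt))
  obtain ⟨g, hgN, hgU⟩ := SetLike.exists_of_lt hnc
  have hg : ∀ x, x ∈ J S.XZ 1 8 ↔ (g : G) * x * (g : G)⁻¹ ∈ J S.XZ 1 8 := by
    intro x
    constructor
    · intro hx
      have h1 := (Subgroup.mem_normalizer_iff.1 hgN ⟨x, hP hx⟩).1 hx
      exact h1
    · intro hx
      have hxP : x ∈ (P : Subgroup G) := by
        have h2 := hP hx
        have e : x = (g : G)⁻¹ * ((g : G) * x * (g : G)⁻¹) * g := by group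
        rw [e]
        exact mul_mem (mul_mem (inv_mem g.2) h2) g.2
      exact (Subgroup.mem_normalizer_iff.1 hgN ⟨x, hxP⟩).2 hx
  obtain ⟨b, hb, t, ht, e⟩ := norm_U S hF hR hg
  obtain ⟨c, d, rfl⟩ := S.mem_T.1 ht
  have htP : S.h c d ∈ (P : Subgroup G) := by
    have e1 : S.h c d = b⁻¹ * g := by rw [e]; group
    rw [e1]; exact mul_mem (inv_mem (hP hb)) g.2
  obtain ⟨k, hk⟩ := P.2 ⟨_, htP⟩
  have hk' : S.h c d ^ (2 ^ k) = 1 := by
    have := congrArg Subtype.val hk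
    simpa using this
  obtain ⟨rfl, rfl⟩ := torus_two S hk'
  apply hgU
  show (g : G) ∈ J S.XZ 1 8
  rw [e, S.h_one, mul_one]; exact hb

/-- every 2-element is conjugate into `U` -/
theorem exists_conj_U [Finite G] (hF : ∃ c : Fˣ, c ≠ 1) (hR : S.R.p = 2) {g : G} (hg : g * g = 1) :
    ∃ k : G, k * g * k⁻¹ ∈ J S.XZ 1 8 := by
  have hfact : Fact (Nat.Prime 2) := ⟨Nat.prime_two⟩
  obtain ⟨P, hP⟩ := exists_sylow S hF hR
  have h2 : IsPGroup 2 (Subgroup.zpowers g) := by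
    rintro ⟨x, hx⟩
    obtain ⟨n, rfl⟩ := Subgroup.mem_zpowers_iff.1 hx
    refine ⟨1, Subtype.ext ?_⟩
    show (g ^ n) ^ (2 ^ 1) = 1
    rw [pow_one, pow_two, ← zpow_add, ← two_mul, zpow_mul, zpow_two, hg, one_zpow]
  obtain ⟨P', hP'⟩ := h2.exists_le_sylow
  obtain ⟨k, hk⟩ := MulAction.exists_smul_eq G P' P
  refine ⟨k, ?_⟩
  rw [← hP, ← hk]
  show k * g * k⁻¹ ∈ ((MulAut.conj k • (P' : Subgroup G) : Subgroup G))
  exact Subgroup.smul_mem_pointwise_smul g (MulAut.conj k) _ (hP' (Subgroup.mem_zpowers g))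

/-- **(F1)** every involution is conjugate to a central root element `e 0 0 u` or to some `o 0 t` -/
theorem classes [Finite G] (hF : ∃ c : Fˣ, c ≠ 1) (hR : S.R.p = 2) {g : G} (hg : g * g = 1) (hg1 : g ≠ 1) :
    (∃ u : F, u ≠ 0 ∧ Cj g (S.e 0 0 u)) ∨ (∃ t : F, t ≠ 0 ∧ Cj g (S.o 0 t)) := by
  obtain ⟨k, hkU, hk⟩ := exists_outside S hg1 (exists_conj_U S hF hR hg)
  have hkk : (k * g * k⁻¹) * (k * g * k⁻¹) = 1 := by
    calc (k * g * k⁻¹) * (k * g * k⁻¹) = k * (g * g) * k⁻¹ := by group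
      _ = 1 := by rw [hg]; group
  rcases hk with hk | hk
  · obtain ⟨t, s, ht, hc⟩ := caseB S hF hR hkU hk hkk
    exact Or.inr ⟨t, ht, (Cj.trans ⟨k, rfl⟩ hc).trans (oo_conj S ht s).symm⟩
  · obtain ⟨v, u, hv, hc⟩ := caseA S hF hR hkU hk hkk
    have hgc : Cj g (S.e 4 0 v * S.e 2 0 u) := Cj.trans ⟨k, rfl⟩ hc
    by_cases hu : u = 0
    · subst hu
      rw [S.e_zero, mul_one] at hgc
      refine Or.inl ⟨v, hv, hgc.trans ⟨S.n2, ?_⟩⟩
      rw [S.n2_e, sub_self]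
    · obtain ⟨χ, hχ⟩ := s3_surj S (Units.mk0 (u * v⁻¹) (mul_ne_zero hu (inv_ne_zero hv)))
      have hχ' : (χ : F) * χ * σ χ * v = u := by
        have h1 : (χ : F) ^ 2 * σ χ = u * v⁻¹ := congrArg Units.val hχ
        rw [← pow_two, h1]; field_simp
      have h2 := zz_conj S (p := (χ : F)) (v := v) χ.ne_zero hv
      rw [hχ'] at h2
      refine Or.inr ⟨χ * v, mul_ne_zero χ.ne_zero hv, (hgc.trans h2.symm).trans ?_⟩
      -- `o 3` to `o 0`
      refine ⟨S.n2, ?_⟩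
      rw [S.n2_o, sub_self]

end Cfsg.Agent.KFacts.TwF4.SylU
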