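import Cfsg.Agent.KFacts.TwF4.CentZ
set_option linter.all false

/-!
# Arcs of root groups in coordinates

For `S : Full σ G`: `mem_o`, `mem_e` (the root groups `fam S.R k`, `k : ℤ`, in coordinates), the action of the torus,
`fix_X` (a normalising element which fixes only `1` in all root groups of an arc but one).
-/

set_option autoImplicit false

namespace Cfsg.Agent.KFacts.TwF4

open Cfsg.Agent.SplitTwo Cfsg.Agent.SplitTwo.ZS Cfsg.Agent.TitsThree.RankTwoZ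

universe u

namespace Arc

/-! ### abstract part -/

section abs

variable {G : Type u} [Group G] {X : ℤ → Subgroup G} {m : ℤ} (Z : ZSys m X)
include Z

/-- an element normalising the root groups and centralising a product centralises the factors -/
theorem fix_split {a b : ℤ} (hab : a ≤ b) (hb : b < a + m) {d : G} (hd : ∀ k, ∀ x ∈ X k, d * x * d⁻¹ ∈ X k)
    {y : G} (hy : y ∈ J X a b) (hyd : d * y * d⁻¹ = y) :
    ∃ x ∈ X a, ∃ y' ∈ J X (a + 1) b, y = x * y' ∧ d * x * d⁻¹ = x ∧ d * y' * d⁻¹ = y' := by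
  obtain ⟨x, hx, y', hy', rfl⟩ := Z.split_ll hab hb hy
  have hJ : ∀ z ∈ J X (a + 1) b, d * z * d⁻¹ ∈ J X (a + 1) b := by
    have : J X (a + 1) b ≤ (J X (a + 1) b).comap (MulAut.conj d).toMonoidHom := by
      refine J_le fun k h1 h2 z hz => ?_
      exact mem_J (hd k z hz) h1 h2
    exact fun z hz => this hz
  have e : (d * x * d⁻¹)⁻¹ * x = (d * y' * d⁻¹) * y'⁻¹ := by
    have e1 : (d * x * d⁻¹) * (d * y' * d⁻¹) = x * y' := by rw [← hyd]; group
    have e2 : (d * y' * d⁻¹) = (d * x * d⁻¹)⁻¹ * (x * y') := by rw [← e1]; group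
    rw [e2]; group
  have h1 : (d * x * d⁻¹)⁻¹ * x ∈ X a := (X a).mul_mem ((X a).inv_mem (hd a x hx)) hx
  have h2 : (d * x * d⁻¹)⁻¹ * x ∈ J X (a + 1) (a + m - 1) := by
    rw [e]
    exact J_mono le_rfl (by omega) ((J X (a + 1) b).mul_mem (hJ y' hy') ((J X (a + 1) b).inv_mem hy'))
  have h3 := Z.inter a _ h1 h2
  have h4 : d * x * d⁻¹ = x := by
    rw [inv_mul_eq_one] at h3; exact h3
  have h5 : d * y' * d⁻¹ = y' := by
    rw [e] at h3
    rw [mul_inv_eq_one] at h3; exact h3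
  exact ⟨x, hx, y', hy', rfl, h4, h5⟩

/-- the fixed points of `d` in an arc, when all root groups but `X c` have none -/
theorem fix_X {a b c : ℤ} (hb : b < a + m) {d : G} (hd : ∀ k, ∀ x ∈ X k, d * x * d⁻¹ ∈ X k)
    (hf : ∀ k, a ≤ k → k ≤ b → k ≠ c → ∀ x ∈ X k, d * x * d⁻¹ = x → x = 1)
    {y : G} (hy : y ∈ J X a b) (hyd : d * y * d⁻¹ = y) : y ∈ X c := by
  have key : ∀ n : ℕ, ∀ a, b + 1 ≤ a + n → b < a + m →
      (∀ k, a ≤ k → k ≤ b → k ≠ c → ∀ x ∈ X k, d * x * d⁻¹ = x → x = 1) →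
      ∀ y ∈ J X a b, d * y * d⁻¹ = y → y ∈ X c := by
    intro n
    induction n with
    | zero =>
      intro a h1 h2 hf y hy hyd
      rw [eq_one_of_J hy (by push_cast at h1; omega)]; exact one_mem _
    | succ n ih =>
      intro a h1 h2 hf y hy hyd
      rcases lt_or_ge b a with hlt | hab
      · rw [eq_one_of_J hy hlt]; exact one_mem _
      obtain ⟨x, hx, y', hy', rfl, h3, h4⟩ := fix_split Z hab h2 hd hy hyd
      have h5 := ih (a + 1) (by push_cast at h1; omega) (by omega)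
        (fun k hk1 hk2 => hf k (by omega) hk2) y' hy' h4
      by_cases hac : a = c
      · subst hac
        -- `y' ∈ X a ∩ J (a+1) b = 1`
        have h6 := Z.inter a y' h5 (J_mono le_rfl (by omega) hy')
        rw [h6, mul_one]; exact hx
      · rw [hf a le_rfl hab hac x hx h3, one_mul]; exact h5
  exact key (b + 1 - a).toNat a (by omega) hb hf y hy hyd

/-- arcs are `p`-groups -/
theorem isPGroup_J {p : ℕ} (hX : ∀ k, IsPGroup p (X k)) : ∀ (n : ℕ) (a b : ℤ), b + 1 ≤ a + n → b < a + m →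
    IsPGroup p (J X a b) := by
  intro n
  induction n with
  | zero =>
    intro a b h1 h2
    rw [J_empty (by push_cast at h1; omega)]
    exact IsPGroup.of_bot
  | succ n ih =>
    intro a b h1 h2
    rcases lt_or_ge b a with hlt | hab
    · rw [J_empty hlt]; exact IsPGroup.of_bot
    have e : J X a b = X a ⊔ J X (a + 1) b := by
      apply le_antisymm
      · refine J_le fun k h1 h2 => ?_
        rcases eq_or_lt_of_le h1 with h3 | h3
        · rw [← h3]; exact le_sup_left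
        · exact (X_le_J (by omega) h2).trans le_sup_right
      · exact sup_le (X_le_J le_rfl hab) (J_mono (by omega) le_rfl)
    rw [e]
    apply IsPGroup.to_sup_of_normal_right' (hX a) (ih (a + 1) b (by push_cast at h1; omega) (by omega))
    have := Z.le_normalizer (a := a + 1) (b := b) (by omega)
    exact (X_le_J (by omega) (by omega)).trans this

end abs

/-! ### coordinates -/

section coord

variable {F : Type*} [Field F] {σ : F →+* F} {G : Type u} [Group G] (S : Full σ G)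

/-! the positive root groups -/

theorem mem_X0 {g : G} : g ∈ S.XZ 0 ↔ ∃ p u, S.e 0 p u = g := by simpa using S.mem_XZ_even 0 g
theorem mem_X1 {g : G} : g ∈ S.XZ 1 ↔ ∃ t, S.o 0 t = g := by simpa using S.mem_XZ_odd 0 g
theorem mem_X2 {g : G} : g ∈ S.XZ 2 ↔ ∃ p u, S.e 1 p u = g := by simpa using S.mem_XZ_even 1 g
theorem mem_X3 {g : G} : g ∈ S.XZ 3 ↔ ∃ t, S.o 1 t = g := by simpa using S.mem_XZ_odd 1 g
theorem mem_X4 {g : G} : g ∈ S.XZ 4 ↔ ∃ p u, S.e 2 p u = g := by simpa using S.mem_XZ_even 2 g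
theorem mem_X5 {g : G} : g ∈ S.XZ 5 ↔ ∃ t, S.o 2 t = g := by simpa using S.mem_XZ_odd 2 g
theorem mem_X6 {g : G} : g ∈ S.XZ 6 ↔ ∃ p u, S.e 3 p u = g := by simpa using S.mem_XZ_even 3 g
theorem mem_X7 {g : G} : g ∈ S.XZ 7 ↔ ∃ t, S.o 3 t = g := by simpa using S.mem_XZ_odd 3 g
theorem mem_X8 {g : G} : g ∈ S.XZ 8 ↔ ∃ p u, S.e 4 p u = g := by simpa using S.mem_XZ_even 4 g
theorem mem_X9 {g : G} : g ∈ S.XZ 9 ↔ ∃ t, S.o 4 t = g := by simpa using S.mem_XZ_odd 4 g
theorem mem_X10 {g : G} : g ∈ S.XZ 10 ↔ ∃ p u, S.e 5 p u = g := by simpa using S.mem_XZ_even 5 g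

include S in
theorem char2 (x : F) : x + x = 0 := by
  rw [← two_mul, S.two, zero_mul]

theorem o_inv (a : ZMod 8) (t : F) : (S.o a t)⁻¹ = S.o a t := by
  rw [inv_eq_iff_mul_eq_one, S.o_add, char2 S, S.o_zero]

theorem z_inv (a : ZMod 8) (u : F) : (S.e a 0 u)⁻¹ = S.e a 0 u := by
  rw [inv_eq_iff_mul_eq_one, S.e_mul]
  simp only [add_zero, map_zero, mul_zero]
  rw [char2 S, S.e_zero]

theorem e_inv (a : ZMod 8) (p u : F) : (S.e a p u)⁻¹ = S.e a p (u + p * σ p) := by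
  rw [inv_eq_iff_mul_eq_one, S.e_mul, char2 S]
  have : u + (u + p * σ p) + p * σ p = (u + u) + (p * σ p + p * σ p) := by ring
  rw [this, char2 S, char2 S, add_zero, S.e_zero]

theorem e_sq (a : ZMod 8) (p u : F) : S.e a p u * S.e a p u = S.e a 0 (p * σ p) := by
  rw [S.e_mul, char2 S, char2 S, zero_add]

/-! ### the torus -/

include S in
theorem s1 {χ : Fˣ} (h : χ * Units.map (σ : F →* F) χ = 1) : χ = 1 := by
  have h1 : Units.map (σ : F →* F) χ = χ⁻¹ := (inv_eq_of_mul_eq_one_right h).symm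
  have h2 := map_map σ S.sq χ
  rw [h1, map_inv, h1, inv_inv, pow_two] at h2
  exact (mul_eq_left.1 h2.symm)

include S in
theorem s2 {χ : Fˣ} (h : Units.map (σ : F →* F) χ = χ) : χ = 1 := by
  have h2 := map_map σ S.sq χ
  rw [h, h, pow_two] at h2
  exact (mul_eq_left.1 h2.symm)

include S in
theorem s3 {χ : Fˣ} (h : χ ^ 2 * Units.map (σ : F →* F) χ = 1) : χ = 1 := by
  have h1 : Units.map (σ : F →* F) χ = (χ ^ 2)⁻¹ := (inv_eq_of_mul_eq_one_right h).symm
  have h2 := map_map σ S.sq χ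
  rw [h1, map_inv, map_pow, h1, inv_pow, inv_inv] at h2
  have h3 : χ ^ 2 * χ ^ 2 = χ ^ 2 := by rw [← pow_two]; exact h2
  have h4 : χ ^ 2 = 1 := mul_eq_left.1 h3
  have h5 : ((χ : F) - 1) ^ 2 = 0 := by
    have e : ((χ : F) - 1) ^ 2 = (χ : F) ^ 2 - 2 * χ + 1 := by ring
    have h6 : (χ : F) ^ 2 = 1 := by rw [← Units.val_pow_eq_pow_val, h4, Units.val_one]
    rw [e, h6, S.two, zero_mul, sub_zero, one_add_one_eq_two, S.two]
  have h7 := sub_eq_zero.1 ((pow_eq_zero_iff two_ne_zero).1 h5)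
  exact Units.ext h7

theorem fix_o {a : ZMod 8} {c d : Fˣ} (h : chO σ a c d ≠ 1) {t : F}
    (hf : S.h c d * S.o a t * (S.h c d)⁻¹ = S.o a t) : t = 0 := by
  rw [S.h_o] at hf
  have h1 := S.injO a hf
  by_contra ht
  apply h
  apply Units.ext
  rw [Units.val_one]
  exact mul_right_cancel₀ ht (by rw [h1, one_mul])

theorem fix_e {a : ZMod 8} {c d : Fˣ} (h : chE σ a c d ≠ 1) {p u : F}
    (hf : S.h c d * S.e a p u * (S.h c d)⁻¹ = S.e a p u) : p = 0 ∧ u = 0 := by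
  rw [S.h_e] at hf
  obtain ⟨h1, h2⟩ := S.injE a _ _ _ _ hf
  constructor
  · by_contra ht
    apply h
    apply Units.ext
    rw [Units.val_one]
    exact mul_right_cancel₀ ht (by rw [h1, one_mul])
  · by_contra ht
    apply h
    apply s1 S
    apply Units.ext
    rw [Units.val_one, Units.val_mul]
    exact mul_right_cancel₀ ht (by rw [one_mul]; exact h2)

theorem fixX_odd {a : ℤ} {c d : Fˣ} (h : chO σ (a : ZMod 8) c d ≠ 1) {x : G} (hx : x ∈ S.XZ (2 * a + 1))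
    (hf : S.h c d * x * (S.h c d)⁻¹ = x) : x = 1 := by
  obtain ⟨t, rfl⟩ := (S.mem_XZ_odd a x).1 hx
  rw [fix_o S h hf, S.o_zero]

theorem fixX_even {a : ℤ} {c d : Fˣ} (h : chE σ (a : ZMod 8) c d ≠ 1) {x : G} (hx : x ∈ S.XZ (2 * a))
    (hf : S.h c d * x * (S.h c d)⁻¹ = x) : x = 1 := by
  obtain ⟨p, u, rfl⟩ := (S.mem_XZ_even a x).1 hx
  obtain ⟨rfl, rfl⟩ := fix_e S h hf
  exact S.e_zero _

theorem h_J (c d : Fˣ) {a b : ℤ} {x : G} (hx : x ∈ J S.XZ a b) : S.h c d * x * (S.h c d)⁻¹ ∈ J S.XZ a b :=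
  S.T_conj_J (S.mem_T.2 ⟨c, d, rfl⟩) hx

theorem h_J_inv (c d : Fˣ) {a b : ℤ} {x : G} (hx : x ∈ J S.XZ a b) : (S.h c d)⁻¹ * x * S.h c d ∈ J S.XZ a b := by
  have := h_J S c⁻¹ d⁻¹ hx
  rwa [← S.h_inv, inv_inv] at this

theorem h_X (c d : Fˣ) (k : ℤ) (x : G) (hx : x ∈ S.XZ k) : S.h c d * x * (S.h c d)⁻¹ ∈ S.XZ k :=
  S.T_conj (S.mem_T.2 ⟨c, d, rfl⟩) k hx

theorem h_pow (c d : Fˣ) (n : ℕ) : S.h c d ^ n = S.h (c ^ n) (d ^ n) := by
  induction n with
  | zero => rw [pow_zero, pow_zero, pow_zero, S.h_one]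
  | succ n ih => rw [pow_succ, ih, S.h_mul, pow_succ, pow_succ]

/-- the torus element is determined by its action on two root groups -/
theorem h_eq_of {g : G} (hg : g ∈ S.T) {c d : Fˣ}
    (h0 : g * S.e 0 1 0 * g⁻¹ = S.e 0 c 0) (h1 : g * S.e 1 1 0 * g⁻¹ = S.e 1 d 0) : g = S.h c d := by
  obtain ⟨c', d', rfl⟩ := S.mem_T.1 hg
  rw [S.h_e] at h0 h1
  obtain ⟨a1, -⟩ := S.injE _ _ _ _ _ h0
  obtain ⟨a2, -⟩ := S.injE _ _ _ _ _ h1
  rw [mul_one, chE_zero] at a1
  rw [mul_one, chE_one] at a2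
  rw [Units.ext a1, Units.ext a2]

theorem n1_inv : S.n1⁻¹ = S.n1 := inv_eq_of_mul_eq_one_left S.n1_sq
theorem n2_inv : S.n2⁻¹ = S.n2 := inv_eq_of_mul_eq_one_left S.n2_sq

/-- `n1` acts on the root groups as `k ↦ 10 - k` -/
theorem n1_maps : Maps S.R.X S.n1 (fun k => 10 - k) := by
  intro k x
  have h := S.n1_refl (k.val : ℤ) x
  have hk : (((k.val : ℕ) : ℤ) : ZMod (2 * 8)) = k := by rw [Int.cast_natCast]; exact ZMod.natCast_zmod_val _
  have h8 : x ∈ S.XZ (k.val : ℤ) ↔ x ∈ S.R.X k := by show x ∈ S.R.X _ ↔ _; rw [hk]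
  have h9 : S.n1 * x * S.n1⁻¹ ∈ S.XZ (10 - (k.val : ℤ)) ↔ S.n1 * x * S.n1⁻¹ ∈ S.R.X (10 - k) := by
    show _ ∈ S.R.X _ ↔ _
    rw [Int.cast_sub, hk]; rfl
  rw [h8, h9] at h
  exact h.symm

theorem n1_h (c d : Fˣ) : S.n1 * S.h c d * S.n1⁻¹ = S.h d⁻¹ c⁻¹ := by
  have hT : S.h c d ∈ S.T := S.mem_T.2 ⟨c, d, rfl⟩
  have hT' : S.n1 * S.h c d * S.n1⁻¹ ∈ S.T := by
    show Maps S.R.X _ id
    have h1 : Maps S.R.X S.n1⁻¹ (fun k => 10 - k) := by rw [n1_inv S]; exact n1_maps S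
    exact (((n1_maps S).mul hT).mul h1).congr fun k => by
      show 10 - (10 - k) = k
      exact sub_sub_cancel 10 k
  have key : ∀ a : ZMod 8, (S.n1 * S.h c d * S.n1⁻¹) * S.e a 1 0 * (S.n1 * S.h c d * S.n1⁻¹)⁻¹ =
      S.e a (chE σ (5 - a) c d) 0 := by
    intro a
    have e1 : (S.n1 * S.h c d * S.n1⁻¹) * S.e a 1 0 * (S.n1 * S.h c d * S.n1⁻¹)⁻¹ =
        S.n1 * (S.h c d * (S.n1⁻¹ * S.e a 1 0 * S.n1) * (S.h c d)⁻¹) * S.n1⁻¹ := by group
    have e2 : S.n1⁻¹ * S.e a 1 0 * S.n1 = S.e (5 - a) 1 0 := by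
      have := S.n1_e a 1 0
      rw [n1_inv S] at this
      rw [n1_inv S]; exact this
    rw [e1, e2, S.h_e, S.n1_e, mul_one, mul_zero]
    congr 1; ring
  refine h_eq_of S hT' ?_ ?_
  · have := key 0
    rw [sub_zero, chE_five] at this
    exact this
  · have := key 1
    rw [show (5 : ZMod 8) - 1 = 4 by decide, chE_four] at this
    exact this

/-! ### surjectivity of the maps on units -/

section surj

variable [Finite F]
include S

theorem s1_surj (v : Fˣ) : ∃ χ : Fˣ, χ * Units.map (σ : F →* F) χ = v := by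
  let f : Fˣ →* Fˣ := MonoidHom.id Fˣ * Units.map (σ : F →* F)
  have hf : Function.Injective f := (injective_iff_map_eq_one f).2 fun χ h => s1 S h
  exact Finite.surjective_of_injective hf v

theorem s3_surj (v : Fˣ) : ∃ χ : Fˣ, χ ^ 2 * Units.map (σ : F →* F) χ = v := by
  let f : Fˣ →* Fˣ := powMonoidHom 2 * Units.map (σ : F →* F)
  have hf : Function.Injective f := (injective_iff_map_eq_one f).2 fun χ h => s3 S h
  exact Finite.surjective_of_injective hf v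

omit S in
theorem σ_surj (σ : F →+* F) (v : F) : ∃ x, σ x = v := Finite.surjective_of_injective σ.injective v

end surj

end coord

end Arc

end Cfsg.Agent.KFacts.TwF4
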