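import Cfsg.Agent.KFacts.TwF4.TorFix
import Cfsg.Agent.KFacts.TwF4.SylU
set_option linter.all false

/-!
# Automorphisms of `²F₄(q)` normalising `U` and `T`, `q > 2`

`NormA S α`: the automorphism `α` normalises `U`, `T`, `⟨X_2, …, X_8⟩`, `X_1`, `X_8`.
`exists_tau`: up to conjugation by an element of the torus, `α` is a field automorphism.
-/

set_option autoImplicit false
set_option linter.unusedSectionVars false

namespace Cfsg.Agent.KFacts.TwF4.AutTau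

open Cfsg.Agent.SplitTwo Cfsg.Agent.SplitTwo.ZS Cfsg.Agent.TitsThree.RankTwoZ Cfsg.Agent.TitsThree.RankTwoRGD
open Cfsg.Agent.SplitTwo.RootSysZ
open Cfsg.Agent.KFacts.TwF4 Cfsg.Agent.KFacts.TwF4.Arc Cfsg.Agent.KFacts.TwF4.SylU

universe u

variable {F : Type*} [Field F] {σ : F →+* F} {G : Type u} [Group G] (S : Full σ G)

/-- `α` normalises `U`, `T`, `⟨X_2, …, X_8⟩`, `X_1`, `X_8` -/
structure NormA (α : MulAut G) : Prop where
  U : ∀ x, α x ∈ J S.XZ 1 8 ↔ x ∈ J S.XZ 1 8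
  T : ∀ x, α x ∈ S.T ↔ x ∈ S.T
  J28 : ∀ x, α x ∈ J S.XZ 2 8 ↔ x ∈ J S.XZ 2 8
  X1 : ∀ x, α x ∈ S.XZ 1 ↔ x ∈ S.XZ 1
  X8 : ∀ x, α x ∈ S.XZ 8 ↔ x ∈ S.XZ 8

/-! ### the `X_2 / Z_2` component -/

/-- `x ∈ ⟨X_2, …, X_8⟩` has `X_2 / Z_2` component `p` -/
def Co (x : G) (p : F) : Prop := ∃ u, ∃ r ∈ J S.XZ 3 8, x = S.e 1 p u * r

variable {S}

theorem co_exists {x : G} (hx : x ∈ J S.XZ 2 8) : ∃ p, Co S x p := by
  obtain ⟨y, hy, r, hr, rfl⟩ := S.zsys8.split_ll (a := 2) (b := 8) (by norm_num) (by norm_num) hx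
  obtain ⟨p, u, rfl⟩ := S.X2 hy
  exact ⟨p, u, r, hr, rfl⟩

theorem co_unique {x : G} {p q : F} (h1 : Co S x p) (h2 : Co S x q) : p = q := by
  obtain ⟨u, r, hr, rfl⟩ := h1
  obtain ⟨v, s, hs, h⟩ := h2
  have h3 : (S.e 1 q v)⁻¹ * S.e 1 p u = s * r⁻¹ := by
    rw [inv_mul_eq_iff_eq_mul, ← mul_assoc, eq_mul_inv_iff_mul_eq]; exact h
  have h4 : (S.e 1 q v)⁻¹ * S.e 1 p u ∈ J S.XZ 3 8 := by rw [h3]; exact mul_mem hs (inv_mem hr)
  have h5 := S.zsys8.inter 2 _ (mul_mem (inv_mem (S.mX2 q v)) (S.mX2 p u)) (J_mono le_rfl (by norm_num) h4)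
  exact (S.injE 1 _ _ _ _ (inv_mul_eq_one.1 h5)).1.symm

theorem co_mul {x y : G} {p q : F} (h1 : Co S x p) (h2 : Co S y q) : Co S (x * y) (p + q) := by
  obtain ⟨u, r, hr, rfl⟩ := h1
  obtain ⟨v, s, hs, rfl⟩ := h2
  refine ⟨u + v + p * σ q, (S.e 1 q v)⁻¹ * r * S.e 1 q v * s, mul_mem ?_ hs, ?_⟩
  · have := S.zsys8.conj_X (a := 3) (b := 8) (k := 2) (by norm_num) (by norm_num) (by norm_num)
      (inv_mem (S.mX2 q v)) hr
    rwa [inv_inv] at this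
  · rw [← S.e_mul]; group

theorem co_mem {x : G} {p : F} (h : Co S x p) : x ∈ J S.XZ 2 8 := by
  obtain ⟨u, r, hr, rfl⟩ := h
  exact mul_mem (mem_J (S.mX2 p u) (by norm_num) (by norm_num)) (J_mono (by norm_num) le_rfl hr)

theorem co_J38 {x : G} (hx : x ∈ J S.XZ 3 8) : Co S x 0 := ⟨0, x, hx, by rw [S.e_zero, one_mul]⟩

theorem co_e1 (p u : F) : Co S (S.e 1 p u) p := ⟨u, 1, one_mem _, by rw [mul_one]⟩

variable (S)

/-- the `X_2 / Z_2` component -/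
noncomputable def co (x : G) : F := by
  classical exact if h : ∃ p, Co S x p then h.choose else 0

variable {S}

theorem co_eq {x : G} {p : F} (h : Co S x p) : co S x = p := by
  unfold co
  rw [dif_pos ⟨p, h⟩]
  exact co_unique (Exists.choose_spec (⟨p, h⟩ : ∃ p, Co S x p)) h

theorem co_map_mul {x y : G} (hx : x ∈ J S.XZ 2 8) (hy : y ∈ J S.XZ 2 8) : co S (x * y) = co S x + co S y := by
  obtain ⟨p, hp⟩ := co_exists hx
  obtain ⟨q, hq⟩ := co_exists hy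
  rw [co_eq hp, co_eq hq, co_eq (co_mul hp hq)]

include S in
/-- ring endomorphisms of a finite field commute -/
theorem comm_ring [Finite F] (f g : F →+* F) (x : F) : f (g x) = g (f x) := by
  by_cases hx : x = 0
  · rw [hx, map_zero, map_zero, map_zero]
  have hc : IsCyclic Fˣ := inferInstance
  obtain ⟨m, hm⟩ := MonoidHom.map_cyclic (Units.map (f : F →* F))
  obtain ⟨n, hn⟩ := MonoidHom.map_cyclic (Units.map (g : F →* F))
  have h1 : Units.map (f : F →* F) (Units.map (g : F →* F) (Units.mk0 x hx)) =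
      Units.map (g : F →* F) (Units.map (f : F →* F) (Units.mk0 x hx)) := by
    rw [hm, hn, hn, hm, ← zpow_mul, ← zpow_mul, mul_comm]
  exact congrArg Units.val h1

/-- the data of `α` on `X_1`, `X_8` -/
structure Dat (S : Full σ G) (α : MulAut G) (f g γ θ : F → F) : Prop where
  N : NormA S α
  o0 : ∀ t, α (S.o 0 t) = S.o 0 (f t)
  e4 : ∀ p u, α (S.e 4 p u) = S.e 4 (g p) (γ p + θ u)
  f1 : f 1 = 1
  g1 : g 1 = 1

namespace Dat

variable {α : MulAut G} {f g γ θ : F → F} (D : Dat S α f g γ θ)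
include D

theorem f_add (s t : F) : f (s + t) = f s + f t := by
  apply S.injO 0
  rw [← S.o_add, ← D.o0, ← D.o0, ← D.o0, ← map_mul, S.o_add]

theorem f_zero : f 0 = 0 := by
  have := D.f_add 0 0
  rw [add_zero] at this
  exact left_eq_add.1 this

theorem θ_zero : γ 0 + θ 0 = 0 ∧ g 0 = 0 := by
  have h := D.e4 0 0
  rw [S.e_zero, map_one] at h
  have := S.e_eq_one h.symm
  exact ⟨this.2, this.1⟩

theorem e_mul' (p u q v : F) : g p + g q = g (p + q) ∧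
    (γ p + θ u) + (γ q + θ v) + g p * σ (g q) = γ (p + q) + θ (u + v + p * σ q) := by
  have h : α (S.e 4 p u * S.e 4 q v) = α (S.e 4 (p + q) (u + v + p * σ q)) := by rw [S.e_mul]
  rw [map_mul, D.e4, D.e4, D.e4, S.e_mul] at h
  exact S.injE 4 _ _ _ _ h

theorem g_add (p q : F) : g (p + q) = g p + g q := (D.e_mul' p 0 q 0).1.symm

theorem exists_h (c d : Fˣ) : ∃ c' d' : Fˣ, α (S.h c d) = S.h c' d' := by
  obtain ⟨c', d', h⟩ := S.mem_T.1 ((D.N.T _).2 (S.mem_T.2 ⟨c, d, rfl⟩))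
  exact ⟨c', d', h.symm⟩

theorem f_ch {c d c' d' : Fˣ} (h : α (S.h c d) = S.h c' d') (x : F) :
    f ((chO σ 0 c d : F) * x) = (chO σ 0 c' d' : F) * f x := by
  apply S.injO 0
  rw [← D.o0, ← S.h_o, map_mul, map_mul, map_inv, h, D.o0, S.h_o]

theorem g_ch {c d c' d' : Fˣ} (h : α (S.h c d) = S.h c' d') (p u : F) :
    g ((chE σ 4 c d : F) * p) = (chE σ 4 c' d' : F) * g p ∧
    γ ((chE σ 4 c d : F) * p) + θ ((chE σ 4 c d : F) * σ (chE σ 4 c d : F) * u) =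
      (chE σ 4 c' d' : F) * σ (chE σ 4 c' d' : F) * (γ p + θ u) := by
  apply S.injE 4
  rw [← D.e4, ← S.h_e, map_mul, map_mul, map_inv, h, D.e4, S.h_e]

theorem f_unit {c d c' d' : Fˣ} (h : α (S.h c d) = S.h c' d') : f (chO σ 0 c d : F) = (chO σ 0 c' d' : F) := by
  have := D.f_ch h 1
  rwa [mul_one, D.f1, mul_one] at this

theorem g_unit {c d c' d' : Fˣ} (h : α (S.h c d) = S.h c' d') : g (chE σ 4 c d : F) = (chE σ 4 c' d' : F) := by
  have := (D.g_ch h 1 0).1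
  rwa [mul_one, D.g1, mul_one] at this

theorem f_mul (a b : F) : f (a * b) = f a * f b := by
  by_cases ha : a = 0
  · rw [ha, zero_mul, D.f_zero, zero_mul]
  obtain ⟨c', d', h⟩ := D.exists_h (Units.mk0 a ha) 1
  have e : (chO σ 0 (Units.mk0 a ha) 1 : F) = a := by
    show ((Units.mk0 a ha * 1 : Fˣ) : F) = a
    rw [mul_one]; rfl
  have h1 := D.f_ch h b
  have h2 := D.f_unit h
  rw [e] at h1 h2
  rw [h1, h2]

theorem g_mul (a b : F) : g (a * b) = g a * g b := by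
  by_cases ha : a = 0
  · rw [ha, zero_mul, D.θ_zero.2, zero_mul]
  obtain ⟨c', d', h⟩ := D.exists_h (Units.mk0 a ha)⁻¹ 1
  have e : (chE σ 4 (Units.mk0 a ha)⁻¹ 1 : F) = a := by
    show (((Units.mk0 a ha)⁻¹⁻¹ : Fˣ) : F) = a
    rw [inv_inv]; rfl
  have h1 := (D.g_ch h b 0).1
  have h2 := D.g_unit h
  rw [e] at h1 h2
  rw [h1, h2]

/-- the composition of `α` with the component -/
theorem ψ_mul {x y : G} (hx : x ∈ J S.XZ 2 8) (hy : y ∈ J S.XZ 2 8) :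
    co S (α (x * y)) = co S (α x) + co S (α y) := by
  rw [map_mul, co_map_mul ((D.N.J28 _).2 hx) ((D.N.J28 _).2 hy)]

/-- `f = g` -/
theorem f_eq_g [Finite F] (hF : ∃ c : Fˣ, c ≠ 1) (x : F) : f x = g x := by
  have m2 : ∀ p u, S.e 1 p u ∈ J S.XZ 2 8 := fun p u => mem_J (S.mX2 p u) (by norm_num) (by norm_num)
  have m3 : ∀ t, S.o 1 t ∈ J S.XZ 2 8 := fun t => mem_J (S.mX3 t) (by norm_num) (by norm_num)
  have m4 : ∀ p u, S.e 2 p u ∈ J S.XZ 2 8 := fun p u => mem_J (S.mX4 p u) (by norm_num) (by norm_num)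
  have m5 : ∀ t, S.o 2 t ∈ J S.XZ 2 8 := fun t => mem_J (S.mX5 t) (by norm_num) (by norm_num)
  have m6 : ∀ p u, S.e 3 p u ∈ J S.XZ 2 8 := fun p u => mem_J (S.mX6 p u) (by norm_num) (by norm_num)
  have m7 : ∀ t, S.o 3 t ∈ J S.XZ 2 8 := fun t => mem_J (S.mX7 t) (by norm_num) (by norm_num)
  have m8 : ∀ p u, S.e 4 p u ∈ J S.XZ 2 8 := fun p u => mem_J (S.mX8 p u) (by norm_num) (by norm_num)
  -- the odd root groups
  have z3 : ∀ t, co S (α (S.o 1 t)) = 0 := by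
    intro t
    have r : S.e 1 1 0 * S.e 2 t 0 = S.e 2 t 0 * S.e 1 1 0 * S.o 1 (1 * t) := S.e_e1 1 1 0 t 0
    have h : co S (α (S.e 1 1 0 * S.e 2 t 0)) = co S (α (S.e 2 t 0 * S.e 1 1 0 * S.o 1 (1 * t))) := by rw [r]
    rw [D.ψ_mul (m2 _ _) (m4 _ _), D.ψ_mul (mul_mem (m4 _ _) (m2 _ _)) (m3 _), D.ψ_mul (m4 _ _) (m2 _ _), one_mul,
      add_comm (co S (α (S.e 2 t 0)))] at h
    exact left_eq_add.1 h
  have z5 : ∀ t, co S (α (S.o 2 t)) = 0 := by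
    intro t
    have r : S.e 2 1 0 * S.e 3 t 0 = S.e 3 t 0 * S.e 2 1 0 * S.o 2 (1 * t) := S.e_e1 2 1 0 t 0
    have h : co S (α (S.e 2 1 0 * S.e 3 t 0)) = co S (α (S.e 3 t 0 * S.e 2 1 0 * S.o 2 (1 * t))) := by rw [r]
    rw [D.ψ_mul (m4 _ _) (m6 _ _), D.ψ_mul (mul_mem (m6 _ _) (m4 _ _)) (m5 _), D.ψ_mul (m6 _ _) (m4 _ _), one_mul,
      add_comm (co S (α (S.e 3 t 0)))] at h
    exact left_eq_add.1 h
  have z7 : ∀ t, co S (α (S.o 3 t)) = 0 := by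
    intro t
    have r : S.e 3 1 0 * S.e 4 t 0 = S.e 4 t 0 * S.e 3 1 0 * S.o 3 (1 * t) := S.e_e1 3 1 0 t 0
    have h : co S (α (S.e 3 1 0 * S.e 4 t 0)) = co S (α (S.e 4 t 0 * S.e 3 1 0 * S.o 3 (1 * t))) := by rw [r]
    rw [D.ψ_mul (m6 _ _) (m8 _ _), D.ψ_mul (mul_mem (m8 _ _) (m6 _ _)) (m7 _), D.ψ_mul (m8 _ _) (m6 _ _), one_mul,
      add_comm (co S (α (S.e 4 t 0)))] at h
    exact left_eq_add.1 h
  -- the centres
  have zz : ∀ a, (∀ p u, S.e a p u ∈ J S.XZ 2 8) → ∀ u, co S (α (S.e a 0 u)) = 0 := by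
    intro a ha u
    obtain ⟨p, hp⟩ : ∃ p : F, p * σ p = u := by
      by_cases hu : u = 0
      · exact ⟨0, by rw [hu, zero_mul]⟩
      · obtain ⟨χ, hχ⟩ := s1_surj S (Units.mk0 u hu)
        exact ⟨χ, congrArg Units.val hχ⟩
    have r := e_sq S a p 0
    rw [hp] at r
    rw [← r, D.ψ_mul (ha _ _) (ha _ _), char2 S]
  have split : ∀ a p u, S.e a p u = S.e a p 0 * S.e a 0 u := by
    intro a p u
    rw [S.e_mul, map_zero, mul_zero, add_zero, add_zero, zero_add]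
  have ze : ∀ a, (∀ p u, S.e a p u ∈ J S.XZ 2 8) → ∀ p u, co S (α (S.e a p u)) = co S (α (S.e a p 0)) := by
    intro a ha p u
    rw [split a p u, D.ψ_mul (ha _ _) (ha _ _), zz a ha, add_zero]
  have zadd : ∀ a, (∀ p u, S.e a p u ∈ J S.XZ 2 8) → ∀ p q, co S (α (S.e a (p + q) 0)) =
      co S (α (S.e a p 0)) + co S (α (S.e a q 0)) := by
    intro a ha p q
    have r : S.e a p 0 * S.e a q 0 = S.e a (p + q) (0 + 0 + p * σ q) := S.e_mul a p 0 q 0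
    rw [← D.ψ_mul (ha _ _) (ha _ _), r, ze a ha (p + q) (0 + 0 + p * σ q)]
  -- the relation for `[X_1, X_8]`
  have key : ∀ t q v, co S (α (S.e 1 (t * q) 0)) + co S (α (S.e 2 (σ t * q * σ q + σ t * v) 0)) +
      co S (α (S.e 3 (t * v) 0)) = f t * g q := by
    intro t q v
    have r := S.o_e4 0 t q v
    rw [show (0 : ZMod 8) + 4 = 4 from rfl, show (0 : ZMod 8) + 1 = 1 from rfl, show (0 : ZMod 8) + 2 = 2 from rfl,
      show (0 : ZMod 8) + 3 = 3 from rfl] at r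
    set a1 := S.e 1 (t * q) (t * σ t * q * σ q + t * σ t * v) with ha1
    set a2 := S.o 1 (t * σ t * q * v + t * σ t * q * q * σ q + t * σ t * σ v) with ha2
    set a3 := S.e 2 (σ t * q * σ q + σ t * v) (t * t * σ t * q * v * v + t * t * σ t * q * q * σ q * v +
      t * t * σ t * v * σ v) with ha3
    set a4 := S.o 2 (t * σ t * σ q * σ v + t * σ t * q * q * σ q * σ q + t * σ t * v * v) with ha4
    set a5 := S.e 3 (t * v) (t * σ t * q * v * v + t * σ t * q * σ q * σ v + t * σ t * q * q * q * σ q * σ q) with ha5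
    set a6 := S.o 3 (t * q * v + t * q * q * σ q + t * σ v) with ha6
    have i1 := m2 (t * q) (t * σ t * q * σ q + t * σ t * v)
    rw [← ha1] at i1
    have i2 := m3 (t * σ t * q * v + t * σ t * q * q * σ q + t * σ t * σ v)
    rw [← ha2] at i2
    have i3 := m4 (σ t * q * σ q + σ t * v) (t * t * σ t * q * v * v + t * t * σ t * q * q * σ q * v +
      t * t * σ t * v * σ v)
    rw [← ha3] at i3
    have i4 := m5 (t * σ t * σ q * σ v + t * σ t * q * q * σ q * σ q + t * σ t * v * v)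
    rw [← ha4] at i4
    have i5 := m6 (t * v) (t * σ t * q * v * v + t * σ t * q * σ q * σ v + t * σ t * q * q * q * σ q * σ q)
    rw [← ha5] at i5
    have i6 := m7 (t * q * v + t * q * q * σ q + t * σ v)
    rw [← ha6] at i6
    -- the left side
    have hL : co S (α (a1 * a2 * a3 * a4 * a5 * a6)) = co S (α (S.e 1 (t * q) 0)) +
        co S (α (S.e 2 (σ t * q * σ q + σ t * v) 0)) + co S (α (S.e 3 (t * v) 0)) := by
      rw [D.ψ_mul (mul_mem (mul_mem (mul_mem (mul_mem i1 i2) i3) i4) i5) i6,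
        D.ψ_mul (mul_mem (mul_mem (mul_mem i1 i2) i3) i4) i5, D.ψ_mul (mul_mem (mul_mem i1 i2) i3) i4,
        D.ψ_mul (mul_mem i1 i2) i3, D.ψ_mul i1 i2, ha2, z3, ha4, z5, ha6, z7, ha1, ze 1 m2, ha3, ze 2 m4, ha5, ze 3 m6]
      ring
    -- the right side
    have r' : S.o 0 t * S.e 4 q v = S.e 4 q v * S.o 0 t * (a1 * a2 * a3 * a4 * a5 * a6) := by
      rw [r]; group
    have h1 := congrArg α r'
    rw [map_mul, map_mul, map_mul, D.o0, D.e4] at h1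
    have r2 := S.o_e4 0 (f t) (g q) (γ q + θ v)
    rw [show (0 : ZMod 8) + 4 = 4 from rfl, show (0 : ZMod 8) + 1 = 1 from rfl, show (0 : ZMod 8) + 2 = 2 from rfl,
      show (0 : ZMod 8) + 3 = 3 from rfl] at r2
    set w := γ q + θ v
    set b1 := S.e 1 (f t * g q) (f t * σ (f t) * g q * σ (g q) + f t * σ (f t) * w) with hb1
    set b2 := S.o 1 (f t * σ (f t) * g q * w + f t * σ (f t) * g q * g q * σ (g q) + f t * σ (f t) * σ w) with hb2
    set b3 := S.e 2 (σ (f t) * g q * σ (g q) + σ (f t) * w) (f t * f t * σ (f t) * g q * w * w +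
      f t * f t * σ (f t) * g q * g q * σ (g q) * w + f t * f t * σ (f t) * w * σ w) with hb3
    set b4 := S.o 2 (f t * σ (f t) * σ (g q) * σ w + f t * σ (f t) * g q * g q * σ (g q) * σ (g q) +
      f t * σ (f t) * w * w) with hb4
    set b5 := S.e 3 (f t * w) (f t * σ (f t) * g q * w * w + f t * σ (f t) * g q * σ (g q) * σ w +
      f t * σ (f t) * g q * g q * g q * σ (g q) * σ (g q)) with hb5
    set b6 := S.o 3 (f t * g q * w + f t * g q * g q * σ (g q) + f t * σ w) with hb6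
    have h2 : α (a1 * a2 * a3 * a4 * a5 * a6) = b1 * (b2 * b3 * b4 * b5 * b6) := by
      have e1 : S.e 4 (g q) w * S.o 0 (f t) * α (a1 * a2 * a3 * a4 * a5 * a6) =
          S.e 4 (g q) w * S.o 0 (f t) * (b1 * (b2 * b3 * b4 * b5 * b6)) := by
        rw [← h1, r2]; group
      exact mul_left_cancel e1
    have j2 : b2 ∈ J S.XZ 3 8 := mem_J (S.mX3 _) (by norm_num) (by norm_num)
    have j3 : b3 ∈ J S.XZ 3 8 := mem_J (S.mX4 _ _) (by norm_num) (by norm_num)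
    have j4 : b4 ∈ J S.XZ 3 8 := mem_J (S.mX5 _) (by norm_num) (by norm_num)
    have j5 : b5 ∈ J S.XZ 3 8 := mem_J (S.mX6 _ _) (by norm_num) (by norm_num)
    have j6 : b6 ∈ J S.XZ 3 8 := mem_J (S.mX7 _) (by norm_num) (by norm_num)
    have h3 : co S (α (a1 * a2 * a3 * a4 * a5 * a6)) = f t * g q :=
      co_eq ⟨_, _, mul_mem (mul_mem (mul_mem (mul_mem j2 j3) j4) j5) j6, h2⟩
    rw [← hL, h3]
  -- conclusion
  have A0 : ∀ a, (∀ p u, S.e a p u ∈ J S.XZ 2 8) → co S (α (S.e a 0 0)) = 0 := by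
    intro a ha
    have := zadd a ha 0 0
    rw [add_zero] at this
    exact left_eq_add.1 this
  have k0 : ∀ t q, co S (α (S.e 1 (t * q) 0)) + co S (α (S.e 2 (σ t * q * σ q) 0)) = f t * g q := by
    intro t q
    have := key t q 0
    rwa [mul_zero, mul_zero, add_zero, A0 3 m6, add_zero] at this
  obtain ⟨c, hc⟩ := hF
  have hσc : σ (c : F) ≠ c := by
    intro h
    exact hc (s2 S (Units.ext h))
  have hw : σ (c : F) + c ≠ 0 := by
    intro h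
    apply hσc
    have h1 : σ (c : F) + c + c = c := by rw [h, zero_add]
    rwa [add_assoc, char2 S, add_zero] at h1
  have A2 : ∀ y, co S (α (S.e 2 y 0)) = 0 := by
    intro y
    obtain ⟨t, ht⟩ := σ_surj σ (y / (σ (c : F) + c))
    have h1 := k0 t (1 + c)
    have h2 := k0 t 1
    have h3 := k0 t c
    have e1 : t * (1 + (c : F)) = t * 1 + t * c := by ring
    have e2 : σ t * (1 + (c : F)) * σ (1 + c) = (σ t * 1 * σ 1 + σ t * c * σ c) + y := by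
      have hy : y = σ t * (σ (c : F) + c) := by rw [ht, div_mul_cancel₀ _ hw]
      rw [hy, map_add, map_one]; ring
    rw [e1, e2, zadd 1 m2, zadd 2 m4, zadd 2 m4, D.g_add, mul_add, ← h2, ← h3] at h1
    have h4 : ∀ a b c' d x : F, a + b + (c' + d + x) = a + c' + (b + d) → x = 0 := by
      intro a b c' d x h
      have : x = (a + b + (c' + d + x)) - (a + b + (c' + d)) := by ring
      rw [this, h]; ring
    exact h4 _ _ _ _ _ h1
  have k1 : ∀ t q, co S (α (S.e 1 (t * q) 0)) = f t * g q := by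
    intro t q
    have := k0 t q
    rwa [A2, add_zero] at this
  have h1 := k1 x 1
  have h2 := k1 1 x
  rw [mul_one, D.g1, mul_one] at h1
  rw [one_mul, D.f1, one_mul] at h2
  rw [← h1, ← h2]

/-- the field automorphism -/
theorem inj_f : Function.Injective f := by
  intro s t h
  apply S.injO 0
  apply α.injective
  rw [D.o0, D.o0, h]

/-- the field automorphism as a ring homomorphism -/
def τ : F →+* F where
  toFun := f
  map_one' := D.f1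
  map_mul' := D.f_mul
  map_zero' := D.f_zero
  map_add' := D.f_add

theorem τ_apply (x : F) : D.τ x = f x := rfl

variable [Finite F] (hF : ∃ c : Fˣ, c ≠ 1)
include hF

theorem h_eq (c d : Fˣ) : α (S.h c d) = S.h (Units.map (D.τ : F →* F) c) (Units.map (D.τ : F →* F) d) := by
  obtain ⟨c', d', h⟩ := D.exists_h c d
  have h1 := D.f_unit h
  have h2 := D.g_unit h
  have e1 : c'⁻¹ = (Units.map (D.τ : F →* F) c)⁻¹ := by
    rw [← map_inv]
    apply Units.ext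
    show ((chE σ 4 c' d' : Fˣ) : F) = f ((c⁻¹ : Fˣ) : F)
    rw [← h2, D.f_eq_g hF]; rfl
  have e2 : c' = Units.map (D.τ : F →* F) c := inv_injective e1
  have e3 : c' * d' = Units.map (D.τ : F →* F) c * Units.map (D.τ : F →* F) d := by
    rw [← map_mul]
    apply Units.ext
    show ((chO σ 0 c' d' : Fˣ) : F) = f ((c * d : Fˣ) : F)
    rw [← h1]; rfl
  rw [e2] at e3
  rw [h, e2, mul_left_cancel e3]

theorem chE_map (a : ZMod 8) (c d : Fˣ) :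
    chE σ a (Units.map (D.τ : F →* F) c) (Units.map (D.τ : F →* F) d) = Units.map (D.τ : F →* F) (chE σ a c d) := by
  have hcomm : ∀ x : Fˣ, Units.map (σ : F →* F) (Units.map (D.τ : F →* F) x) =
      Units.map (D.τ : F →* F) (Units.map (σ : F →* F) x) := fun x => Units.ext (comm_ring (S := S) σ D.τ x)
  have key : ∀ a : ZMod 8, a = 0 ∨ a = 1 ∨ a = 2 ∨ a = 3 ∨ a = 4 ∨ a = 5 ∨ a = 6 ∨ a = 7 := by decide
  rcases key a with rfl | rfl | rfl | rfl | rfl | rfl | rfl | rfl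
  · rfl
  · rfl
  · rw [chE_two, chE_two, hcomm, map_div]
  · rw [chE_three, chE_three, hcomm, map_div]
  · rw [chE_four, chE_four, map_inv]
  · rw [chE_five, chE_five, map_inv]
  · rw [chE_six, chE_six, hcomm, map_div]
  · rw [chE_seven, chE_seven, hcomm, map_div]

theorem chO_map (a : ZMod 8) (c d : Fˣ) :
    chO σ a (Units.map (D.τ : F →* F) c) (Units.map (D.τ : F →* F) d) = Units.map (D.τ : F →* F) (chO σ a c d) := by
  unfold chO
  rw [D.chE_map hF, D.chE_map hF, map_mul]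

end Dat

variable (S) in
theorem mem_Tk_odd (a : ℤ) (c d : Fˣ) : S.h c d ∈ S.Tk (2 * a + 1) ↔ chO σ (a : ZMod 8) c d = 1 := by
  constructor
  · rintro ⟨-, h2⟩
    have h3 := Subgroup.mem_centralizer_iff.1 h2 _ (S.o_mem a 1)
    have h4 := S.h_o c d a 1
    rw [← h3, mul_inv_cancel_right] at h4
    have h5 := S.injO a h4
    rw [mul_one] at h5
    exact Units.ext h5.symm
  · intro h
    refine ⟨S.mem_T.2 ⟨c, d, rfl⟩, Subgroup.mem_centralizer_iff.2 fun x hx => ?_⟩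
    obtain ⟨t, rfl⟩ := (S.mem_XZ_odd a x).1 hx
    have h4 := S.h_o c d a t
    rw [h, Units.val_one, one_mul, mul_inv_eq_iff_eq_mul] at h4
    exact h4.symm

variable (S) in
theorem mem_Tk_even (a : ℤ) (c d : Fˣ) : S.h c d ∈ S.Tk (2 * a) ↔ chE σ (a : ZMod 8) c d = 1 := by
  constructor
  · rintro ⟨-, h2⟩
    have h3 := Subgroup.mem_centralizer_iff.1 h2 _ (S.e_mem a 1 0)
    have h4 := S.h_e c d a 1 0
    rw [← h3, mul_inv_cancel_right] at h4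
    have h5 := (S.injE a _ _ _ _ h4).1
    rw [mul_one] at h5
    exact Units.ext h5.symm
  · intro h
    refine ⟨S.mem_T.2 ⟨c, d, rfl⟩, Subgroup.mem_centralizer_iff.2 fun x hx => ?_⟩
    obtain ⟨p, u, rfl⟩ := (S.mem_XZ_even a x).1 hx
    have h4 := S.h_e c d a p u
    rw [h, Units.val_one, one_mul, map_one, one_mul, one_mul, mul_inv_eq_iff_eq_mul] at h4
    exact h4.symm

variable (S) in
theorem exists_Tk (hF : ∃ c : Fˣ, c ≠ 1) (k : ℤ) : ∃ t ∈ S.Tk k, t ≠ 1 := by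
  obtain ⟨c, hc⟩ := hF
  obtain ⟨m, hm | hm⟩ := Int.even_or_odd' k
  · refine ⟨S.ck m (S.h 1 c), ?_, ?_⟩
    · have := S.ck_Tk m (k := 0) (S.mem_Tk_zero.2 ⟨c, rfl⟩)
      rwa [zero_add, ← hm] at this
    · rw [Ne, MulEquiv.map_eq_one_iff, ← S.h_one]
      intro h
      exact hc (S.h_inj _ _ _ _ h).2
  · refine ⟨S.ck m (S.h c c⁻¹), ?_, ?_⟩
    · have := S.ck_Tk m (k := 1) (S.mem_Tk_one.2 ⟨c, rfl⟩)
      rwa [add_comm, ← hm] at this
    · rw [Ne, MulEquiv.map_eq_one_iff, ← S.h_one]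
      intro h
      exact hc (S.h_inj _ _ _ _ h).1

namespace Dat

variable {α : MulAut G} {f g γ θ : F → F} (D : Dat S α f g γ θ)
include D
variable [Finite F] (hF : ∃ c : Fˣ, c ≠ 1)
include hF

theorem Tk_map {k : ℤ} {t : G} (ht : t ∈ S.Tk k) : α t ∈ S.Tk k := by
  obtain ⟨c, d, rfl⟩ := S.mem_T.1 ht.1
  rw [D.h_eq hF]
  obtain ⟨m, rfl | rfl⟩ := Int.even_or_odd' k
  · rw [mem_Tk_even] at ht ⊢
    rw [D.chE_map hF, ht, map_one]
  · rw [mem_Tk_odd] at ht ⊢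
    rw [D.chO_map hF, ht, map_one]

/-- `α` normalises the root groups of `U` -/
theorem X_map {k : ℤ} (h1 : 1 ≤ k) (h2 : k ≤ 8) {x : G} (hx : x ∈ S.XZ k) : α x ∈ S.XZ k := by
  obtain ⟨t, ht, ht1⟩ := exists_Tk S hF k
  have h3 : t * x * t⁻¹ = x := by rw [S.Tk_comm ht hx, mul_inv_cancel_right]
  have h4 : α t * α x * (α t)⁻¹ = α x := by rw [← map_mul, ← map_inv, ← map_mul, h3]
  exact S.fix_J (D.Tk_map hF ht) ((MulEquiv.map_ne_one_iff _).2 ht1) (a := 1) (b := 8) (by omega) (by omega)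
    (by norm_num) ((D.N.U _).2 (mem_J hx h1 h2)) h4

theorem τ_σ (x : F) : D.τ (σ x) = σ (D.τ x) := comm_ring (S := S) D.τ σ x

/-- **`α` on `X_8`** -/
theorem e4' (p u : F) : α (S.e 4 p u) = S.e 4 (D.τ p) (D.τ u) := by
  have hg : ∀ x, g x = D.τ x := fun x => (D.f_eq_g hF x).symm
  -- the centre
  have hθ0 : ∀ u, γ 0 + θ u = D.τ u := by
    intro u
    obtain ⟨p, hp⟩ : ∃ p : F, p * σ p = u := by
      by_cases hu : u = 0
      · exact ⟨0, by rw [hu, zero_mul]⟩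
      · obtain ⟨χ, hχ⟩ := s1_surj S (Units.mk0 u hu)
        exact ⟨χ, congrArg Units.val hχ⟩
    have h1 := congrArg α (e_sq S 4 p 0)
    rw [map_mul, D.e4, e_sq, D.e4, hp] at h1
    obtain ⟨-, h2⟩ := S.injE 4 _ _ _ _ h1
    rw [← h2, hg, ← D.τ_σ hF, ← map_mul, hp]
  have hθ : ∀ u, θ u = D.τ u + γ 0 := by
    intro u
    rw [← hθ0 u, add_comm (γ 0), add_assoc, char2 S, add_zero]
  -- `δ p`
  set δ : F → F := fun p => γ p + γ 0 with hδ
  have he : ∀ p u, α (S.e 4 p u) = S.e 4 (D.τ p) (δ p + D.τ u) := by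
    intro p u
    rw [D.e4, hg, hθ]
    congr 1
    rw [hδ]; ring
  have hδadd : ∀ p q, δ (p + q) = δ p + δ q := by
    intro p q
    have h1 : α (S.e 4 p 0 * S.e 4 q 0) = α (S.e 4 (p + q) (0 + 0 + p * σ q)) := by rw [S.e_mul]
    rw [map_mul, he, he, he, S.e_mul] at h1
    obtain ⟨-, h2⟩ := S.injE 4 _ _ _ _ h1
    rw [map_zero, add_zero, add_zero, add_zero, zero_add, map_mul, D.τ_σ hF] at h2
    exact (add_right_cancel h2).symm
  have hδmul : ∀ χ p : F, δ (χ * p) = D.τ (χ * σ χ) * δ p := by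
    intro χ p
    have hδ0 : δ 0 = 0 := by rw [hδ]; exact char2 S _
    by_cases hχ : χ = 0
    · rw [hχ, zero_mul, zero_mul, map_zero, zero_mul, hδ0]
    have h1 := S.h_e (Units.mk0 χ hχ)⁻¹ 1 4 p 0
    have e : (chE σ 4 (Units.mk0 χ hχ)⁻¹ 1 : F) = χ := by
      show (((Units.mk0 χ hχ)⁻¹⁻¹ : Fˣ) : F) = χ
      rw [inv_inv]; rfl
    rw [e, mul_zero] at h1
    have h2 := congrArg α h1
    rw [map_mul, map_mul, map_inv, D.h_eq hF, he, S.h_e, he, D.chE_map hF] at h2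
    obtain ⟨-, h3⟩ := S.injE 4 _ _ _ _ h2
    have e' : ((Units.map (D.τ : F →* F) (chE σ 4 (Units.mk0 χ hχ)⁻¹ 1) : Fˣ) : F) = D.τ χ := by
      show D.τ (chE σ 4 (Units.mk0 χ hχ)⁻¹ 1 : F) = D.τ χ
      rw [e]
    rw [e', map_zero, add_zero, add_zero, ← D.τ_σ hF, ← map_mul] at h3
    exact h3.symm
  have hδ1 : δ 1 = 0 := by
    obtain ⟨c, hc⟩ := hF
    have h1 := hδadd 1 (c : F)
    have h2 := hδmul (1 + (c : F)) 1
    have h3 := hδmul (c : F) 1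
    rw [mul_one] at h2 h3
    rw [h1, h3] at h2
    have h4 : D.τ (σ (c : F) + c) * δ 1 = 0 := by
      have e1 : (1 + (c : F)) * σ (1 + c) = 1 + (σ (c : F) + c) + c * σ c := by rw [map_add, map_one]; ring
      rw [e1, map_add, map_add, map_one] at h2
      have h5 : D.τ (σ (c : F) + c) * δ 1 = (1 + D.τ (σ (c : F) + c) + D.τ (c * σ c)) * δ 1 -
          (δ 1 + D.τ (c * σ c) * δ 1) := by ring
      rw [h5, ← h2, sub_self]
    rcases mul_eq_zero.1 h4 with h5 | h5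
    · exfalso
      have h6 : σ (c : F) + c = 0 := D.τ.injective (by rw [h5, map_zero])
      apply hc
      apply s2 S
      apply Units.ext
      have h7 : σ (c : F) + c + c = c := by rw [h6, zero_add]
      rwa [add_assoc, char2 S, add_zero] at h7
    · exact h5
  have hδz : δ p = 0 := by
    have := hδmul p 1
    rwa [mul_one, hδ1, mul_zero] at this
  rw [he, hδz, zero_add]

/-- comparison of two products of root elements -/
theorem cmp {k : ℤ} (h1 : 1 ≤ k) (h2 : k ≤ 7) {x x' r r' : G} (hx : x ∈ S.XZ k) (hx' : x' ∈ S.XZ k)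
    (hr : r ∈ J S.XZ (k + 1) 8) (hr' : r' ∈ J S.XZ (k + 1) 8) (h : x * r = x' * r') : x = x' ∧ r = r' := by
  have h3 : x'⁻¹ * x = r' * r⁻¹ := by
    rw [inv_mul_eq_iff_eq_mul, ← mul_assoc, eq_mul_inv_iff_mul_eq]; exact h
  have h4 := S.zsys8.inter k _ (mul_mem (inv_mem hx') hx)
    (J_mono (a := k + 1) (b := 8) (c := k + 1) (d := k + 8 - 1) le_rfl (by omega)
      (by rw [h3]; exact mul_mem hr' (inv_mem hr)))
  have h5 : x' = x := inv_mul_eq_one.1 h4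
  rw [h5] at h
  exact ⟨h5.symm, mul_left_cancel h⟩

theorem o0' (t : F) : α (S.o 0 t) = S.o 0 (D.τ t) := D.o0 t

/-- the relation `[X_1, X_8]` and its image -/
theorem rel18 (t q v : F) : ∀ {a1 a2 a3 a4 a5 a6 b1 b2 b3 b4 b5 b6 : G}, a1 ∈ S.XZ 2 → a2 ∈ S.XZ 3 → a3 ∈ S.XZ 4 →
    a4 ∈ S.XZ 5 → a5 ∈ S.XZ 6 → a6 ∈ S.XZ 7 → b1 ∈ S.XZ 2 → b2 ∈ S.XZ 3 → b3 ∈ S.XZ 4 →
    b4 ∈ S.XZ 5 → b5 ∈ S.XZ 6 → b6 ∈ S.XZ 7 →
    S.o 0 t * S.e 4 q v = S.e 4 q v * S.o 0 t * a1 * a2 * a3 * a4 * a5 * a6 →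
    S.o 0 (D.τ t) * S.e 4 (D.τ q) (D.τ v) = S.e 4 (D.τ q) (D.τ v) * S.o 0 (D.τ t) * b1 * b2 * b3 * b4 * b5 * b6 →
    α a1 = b1 ∧ α a2 = b2 ∧ α a3 = b3 ∧ α a4 = b4 ∧ α a5 = b5 ∧ α a6 = b6 := by
  intro a1 a2 a3 a4 a5 a6 b1 b2 b3 b4 b5 b6 i1 i2 i3 i4 i5 i6 j1 j2 j3 j4 j5 j6 h1 h2
  have h3 := congrArg α h1
  simp only [map_mul, D.o0' hF, D.e4' hF] at h3
  rw [h2] at h3
  have k2 := D.X_map hF (by norm_num) (by norm_num) i1
  have k3 := D.X_map hF (by norm_num) (by norm_num) i2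
  have k4 := D.X_map hF (by norm_num) (by norm_num) i3
  have k5 := D.X_map hF (by norm_num) (by norm_num) i4
  have k6 := D.X_map hF (by norm_num) (by norm_num) i5
  have k7 := D.X_map hF (by norm_num) (by norm_num) i6
  have h4 : α a1 * (α a2 * (α a3 * (α a4 * (α a5 * α a6)))) = b1 * (b2 * (b3 * (b4 * (b5 * b6)))) := by
    have e : S.e 4 (D.τ q) (D.τ v) * S.o 0 (D.τ t) * (b1 * (b2 * (b3 * (b4 * (b5 * b6))))) =
        S.e 4 (D.τ q) (D.τ v) * S.o 0 (D.τ t) * (α a1 * (α a2 * (α a3 * (α a4 * (α a5 * α a6))))) := by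
      simpa only [mul_assoc] using h3
    exact (mul_left_cancel e).symm
  have c6 : ∀ x ∈ S.XZ 7, x ∈ J S.XZ 7 8 := fun x hx => mem_J hx (by norm_num) (by norm_num)
  have c5 : ∀ x ∈ S.XZ 6, ∀ y ∈ J S.XZ 7 8, x * y ∈ J S.XZ 6 8 := fun x hx y hy =>
    mul_mem (mem_J hx (by norm_num) (by norm_num)) (J_mono (by norm_num) le_rfl hy)
  have c4 : ∀ x ∈ S.XZ 5, ∀ y ∈ J S.XZ 6 8, x * y ∈ J S.XZ 5 8 := fun x hx y hy =>
    mul_mem (mem_J hx (by norm_num) (by norm_num)) (J_mono (by norm_num) le_rfl hy)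
  have c3 : ∀ x ∈ S.XZ 4, ∀ y ∈ J S.XZ 5 8, x * y ∈ J S.XZ 4 8 := fun x hx y hy =>
    mul_mem (mem_J hx (by norm_num) (by norm_num)) (J_mono (by norm_num) le_rfl hy)
  have c2 : ∀ x ∈ S.XZ 3, ∀ y ∈ J S.XZ 4 8, x * y ∈ J S.XZ 3 8 := fun x hx y hy =>
    mul_mem (mem_J hx (by norm_num) (by norm_num)) (J_mono (by norm_num) le_rfl hy)
  obtain ⟨e1, h5⟩ := D.cmp hF (k := 2) (by norm_num) (by norm_num) k2 j1
    (c2 _ k3 _ (c3 _ k4 _ (c4 _ k5 _ (c5 _ k6 _ (c6 _ k7))))) (c2 _ j2 _ (c3 _ j3 _ (c4 _ j4 _ (c5 _ j5 _ (c6 _ j6))))) h4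
  obtain ⟨e2, h6⟩ := D.cmp hF (k := 3) (by norm_num) (by norm_num) k3 j2
    (c3 _ k4 _ (c4 _ k5 _ (c5 _ k6 _ (c6 _ k7)))) (c3 _ j3 _ (c4 _ j4 _ (c5 _ j5 _ (c6 _ j6)))) h5
  obtain ⟨e3, h7⟩ := D.cmp hF (k := 4) (by norm_num) (by norm_num) k4 j3
    (c4 _ k5 _ (c5 _ k6 _ (c6 _ k7))) (c4 _ j4 _ (c5 _ j5 _ (c6 _ j6))) h6
  obtain ⟨e4, h8⟩ := D.cmp hF (k := 5) (by norm_num) (by norm_num) k5 j4
    (c5 _ k6 _ (c6 _ k7)) (c5 _ j5 _ (c6 _ j6)) h7
  obtain ⟨e5, h9⟩ := D.cmp hF (k := 6) (by norm_num) (by norm_num) k6 j5 (c6 _ k7) (c6 _ j6) h8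
  exact ⟨e1, e2, e3, e4, e5, h9⟩

omit D hF in
omit [Finite F] in
theorem r18a (v : F) : S.o 0 1 * S.e 4 0 v = S.e 4 0 v * S.o 0 1 * S.e 1 0 v * S.o 1 (σ v) * S.e 2 v (v * σ v) *
    S.o 2 (v * v) * S.e 3 v 0 * S.o 3 (σ v) := by
  have r := S.o_e4 0 1 0 v
  rw [show (0 : ZMod 8) + 4 = 4 from rfl, show (0 : ZMod 8) + 1 = 1 from rfl, show (0 : ZMod 8) + 2 = 2 from rfl,
    show (0 : ZMod 8) + 3 = 3 from rfl] at r
  simp only [map_one, map_zero, mul_zero, zero_mul, one_mul, mul_one, add_zero, zero_add] at r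
  exact r

omit D hF in
omit [Finite F] in
theorem r18b (q : F) : S.o 0 1 * S.e 4 q 0 = S.e 4 q 0 * S.o 0 1 * S.e 1 q (q * σ q) * S.o 1 (q * q * σ q) *
    S.e 2 (q * σ q) 0 * S.o 2 (q * q * σ q * σ q) * S.e 3 0 (q * q * q * σ q * σ q) * S.o 3 (q * q * σ q) := by
  have r := S.o_e4 0 1 q 0
  rw [show (0 : ZMod 8) + 4 = 4 from rfl, show (0 : ZMod 8) + 1 = 1 from rfl, show (0 : ZMod 8) + 2 = 2 from rfl,
    show (0 : ZMod 8) + 3 = 3 from rfl] at r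
  simp only [map_one, map_zero, mul_zero, zero_mul, one_mul, mul_one, add_zero, zero_add] at r
  exact r

theorem six (v : F) : α (S.e 1 0 v) = S.e 1 0 (D.τ v) ∧ α (S.o 1 (σ v)) = S.o 1 (σ (D.τ v)) ∧
    α (S.e 2 v (v * σ v)) = S.e 2 (D.τ v) (D.τ v * σ (D.τ v)) ∧ α (S.o 2 (v * v)) = S.o 2 (D.τ v * D.τ v) ∧
    α (S.e 3 v 0) = S.e 3 (D.τ v) 0 ∧ α (S.o 3 (σ v)) = S.o 3 (σ (D.τ v)) := by
  have h2 := r18a (S := S) (D.τ v)
  refine D.rel18 hF 1 0 v (S.mX2 _ _) (S.mX3 _) (S.mX4 _ _) (S.mX5 _) (S.mX6 _ _) (S.mX7 _)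
    (S.mX2 _ _) (S.mX3 _) (S.mX4 _ _) (S.mX5 _) (S.mX6 _ _) (S.mX7 _) (r18a v) ?_
  rw [map_one, map_zero]
  exact h2

theorem one' (q : F) : α (S.e 1 q (q * σ q)) = S.e 1 (D.τ q) (D.τ q * σ (D.τ q)) := by
  have h2 := r18b (S := S) (D.τ q)
  have := D.rel18 hF 1 q 0 (S.mX2 _ _) (S.mX3 _) (S.mX4 _ _) (S.mX5 _) (S.mX6 _ _) (S.mX7 _)
    (S.mX2 _ _) (S.mX3 _) (S.mX4 _ _) (S.mX5 _) (S.mX6 _ _) (S.mX7 _) (r18b q) (by
      rw [map_one, map_zero]; exact h2)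
  exact this.1

omit hF in
theorem centre_of {a : ZMod 8} (h : ∀ p, ∃ u v, α (S.e a p u) = S.e a (D.τ p) v) (u : F)
    (hc : ∀ x, D.τ (σ x) = σ (D.τ x)) : α (S.e a 0 u) = S.e a 0 (D.τ u) := by
  obtain ⟨p, hp⟩ : ∃ p : F, p * σ p = u := by
    by_cases hu : u = 0
    · exact ⟨0, by rw [hu, zero_mul]⟩
    · obtain ⟨χ, hχ⟩ := s1_surj S (Units.mk0 u hu)
      exact ⟨χ, congrArg Units.val hχ⟩
  obtain ⟨w, w', hw⟩ := h p
  have h1 := congrArg α (e_sq S a p w)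
  rw [map_mul, hw, e_sq, hp, ← hc, ← map_mul, hp] at h1
  exact h1.symm

theorem E1 (p u : F) : α (S.e 1 p u) = S.e 1 (D.τ p) (D.τ u) := by
  have e : S.e 1 p u = S.e 1 p (p * σ p) * S.e 1 0 (u + p * σ p) := by
    rw [S.e_mul, map_zero, mul_zero, add_zero, add_zero, add_comm u, ← add_assoc, char2 S, zero_add]
  rw [e, map_mul, D.one' hF, (D.six hF _).1, S.e_mul, map_zero, mul_zero, add_zero, add_zero, map_add, map_mul,
    D.τ_σ hF, add_comm (D.τ u), ← add_assoc, char2 S, zero_add]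

theorem O1 (t : F) : α (S.o 1 t) = S.o 1 (D.τ t) := by
  obtain ⟨v, rfl⟩ := σ_surj σ t
  rw [(D.six hF v).2.1, D.τ_σ hF]

theorem Z2 (u : F) : α (S.e 2 0 u) = S.e 2 0 (D.τ u) :=
  D.centre_of (fun p => ⟨_, _, (D.six hF p).2.2.1⟩) u (D.τ_σ hF)

theorem E2 (p u : F) : α (S.e 2 p u) = S.e 2 (D.τ p) (D.τ u) := by
  have e : S.e 2 p u = S.e 2 p (p * σ p) * S.e 2 0 (u + p * σ p) := by
    rw [S.e_mul, map_zero, mul_zero, add_zero, add_zero, add_comm u, ← add_assoc, char2 S, zero_add]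
  rw [e, map_mul, (D.six hF p).2.2.1, D.Z2 hF, S.e_mul, map_zero, mul_zero, add_zero, add_zero, map_add, map_mul,
    D.τ_σ hF, add_comm (D.τ u), ← add_assoc, char2 S, zero_add]

theorem O2 (t : F) : α (S.o 2 t) = S.o 2 (D.τ t) := by
  obtain ⟨w, rfl⟩ := σ_surj σ t
  obtain ⟨v, rfl⟩ := σ_surj σ w
  rw [S.sq, pow_two, (D.six hF v).2.2.2.1, map_mul]

theorem Z3 (u : F) : α (S.e 3 0 u) = S.e 3 0 (D.τ u) :=
  D.centre_of (fun p => ⟨_, _, (D.six hF p).2.2.2.2.1⟩) u (D.τ_σ hF)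

theorem E3 (p u : F) : α (S.e 3 p u) = S.e 3 (D.τ p) (D.τ u) := by
  have e : S.e 3 p u = S.e 3 p 0 * S.e 3 0 u := by
    rw [S.e_mul, map_zero, mul_zero, add_zero, add_zero, zero_add]
  rw [e, map_mul, (D.six hF p).2.2.2.2.1, D.Z3 hF, S.e_mul, map_zero, mul_zero, add_zero, add_zero, zero_add]

theorem O3 (t : F) : α (S.o 3 t) = S.o 3 (D.τ t) := by
  obtain ⟨v, rfl⟩ := σ_surj σ t
  rw [(D.six hF v).2.2.2.2.2, D.τ_σ hF]

theorem E4 (p u : F) : α (S.e 4 p u) = S.e 4 (D.τ p) (D.τ u) := D.e4' hF p u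
theorem O0 (t : F) : α (S.o 0 t) = S.o 0 (D.τ t) := D.o0 t

omit hF in
/-- `α` normalises the torus, inverse -/
theorem inv_T {t : G} (ht : t ∈ S.T) : α.symm t ∈ S.T := by
  rw [← D.N.T, MulEquiv.apply_symm_apply]; exact ht

/-- `α n1 = n1` -/
theorem n1' : α S.n1 = S.n1 := by
  -- `n1⁻¹ α n1` centralises `⟨X_2, …, X_8⟩`
  have hgen : ∀ k : ℤ, 2 ≤ k → k ≤ 8 → ∀ x ∈ S.XZ k, α (S.n1 * x * S.n1⁻¹) = S.n1 * α x * S.n1⁻¹ := by
    intro k h1 h2 x hx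
    interval_cases k
    · obtain ⟨p, u, rfl⟩ := S.X2 hx
      rw [S.n1_e, D.E1 hF, S.n1_e]
      exact D.E4 hF p u
    · obtain ⟨t, rfl⟩ := S.X3 hx
      rw [S.n1_o, D.O1 hF, S.n1_o]
      exact D.O3 hF t
    · obtain ⟨p, u, rfl⟩ := S.X4 hx
      rw [S.n1_e, D.E2 hF, S.n1_e]
      exact D.E3 hF p u
    · obtain ⟨t, rfl⟩ := S.X5 hx
      rw [S.n1_o, D.O2 hF, S.n1_o]
      exact D.O2 hF t
    · obtain ⟨p, u, rfl⟩ := S.X6 hx
      rw [S.n1_e, D.E3 hF, S.n1_e]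
      exact D.E2 hF p u
    · obtain ⟨t, rfl⟩ := S.X7 hx
      rw [S.n1_o, D.O3 hF, S.n1_o]
      exact D.O1 hF t
    · obtain ⟨p, u, rfl⟩ := S.X8 hx
      rw [S.n1_e, D.E4 hF, S.n1_e]
      exact D.E1 hF p u
  have hJ : ∀ x ∈ J S.XZ 2 8, α (S.n1 * x * S.n1⁻¹) = S.n1 * α x * S.n1⁻¹ := by
    let M : Subgroup G := MonoidHom.eqLocus (α.toMonoidHom.comp (MulAut.conj S.n1).toMonoidHom)
      ((MulAut.conj S.n1).toMonoidHom.comp α.toMonoidHom)
    have : J S.XZ 2 8 ≤ M := J_le fun k h1 h2 x hx => hgen k h1 h2 x hx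
    exact fun x hx => this hx
  set w := S.n1⁻¹ * α S.n1 with hw
  have hwC : w ∈ S.W46 := by
    rw [← S.centralizer_J28, Subgroup.mem_centralizer_iff]
    intro y hy
    obtain ⟨x, rfl⟩ := α.surjective y
    have hx : x ∈ J S.XZ 2 8 := (D.N.J28 x).1 hy
    have h1 := hJ x hx
    rw [map_mul, map_mul, map_inv] at h1
    have h2 : w * α x * w⁻¹ = α x := by
      rw [hw]
      calc S.n1⁻¹ * α S.n1 * α x * (S.n1⁻¹ * α S.n1)⁻¹ = S.n1⁻¹ * (α S.n1 * α x * (α S.n1)⁻¹) * S.n1 := by group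
        _ = _ := by rw [h1]; group
    rw [mul_inv_eq_iff_eq_mul] at h2
    exact h2.symm
  -- it normalises the torus
  have hwT : ∀ t ∈ S.T, w * t * w⁻¹ ∈ S.T := by
    intro t ht
    have h1 := D.inv_T ht
    have h2 := (D.N.T _).2 (S.n1_T h1)
    rw [map_mul, map_mul, map_inv, MulEquiv.apply_symm_apply] at h2
    have h3 := S.n1_T h2
    have e : S.n1 * (α S.n1 * t * (α S.n1)⁻¹) * S.n1⁻¹ = w * t * w⁻¹ := by
      rw [hw, mul_inv_rev, inv_inv, Full.n1_inv S]; simp only [mul_assoc]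
    rwa [e] at h3
  have hw1 : w = 1 := by
    obtain ⟨t, ht, ht1⟩ := exists_Tk S hF 1
    have h1 : w * t * w⁻¹ * t⁻¹ ∈ S.T := mul_mem (hwT t ht.1) (inv_mem ht.1)
    have h2 : w * t * w⁻¹ * t⁻¹ ∈ J S.XZ 1 8 := by
      have e : w * t * w⁻¹ * t⁻¹ = w * (t * w⁻¹ * t⁻¹) := by group
      have hwJ := S.W46_le hwC
      rw [e]
      exact mul_mem (J_mono (by norm_num) (by norm_num) hwJ)
        (J_mono (by norm_num) (by norm_num) (S.T_conj_J ht.1 (inv_mem hwJ)))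
    have h3 := S.U_inf_T h1 h2
    have h4 : t * w * t⁻¹ = w := by
      have : w * t = t * w := by
        rw [mul_inv_eq_one, mul_inv_eq_iff_eq_mul] at h3
        exact h3
      rw [← this, mul_inv_cancel_right]
    have h5 := S.fix_J ht ht1 (a := 1) (b := 8) (by norm_num) (by norm_num) (by norm_num)
      (J_mono (by norm_num) (by norm_num) (S.W46_le hwC)) h4
    exact S.zsys8.inter 1 _ h5 (J_mono (by norm_num) (by norm_num) (S.W46_le hwC))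
  exact (inv_mul_eq_one.1 (hw.symm.trans hw1)).symm

/-- `α n2 = n2` -/
theorem n2' : α S.n2 = S.n2 := by
  have hgen : ∀ k : ℤ, 1 ≤ k → k ≤ 7 → ∀ x ∈ S.XZ k, α (S.n2 * x * S.n2⁻¹) = S.n2 * α x * S.n2⁻¹ := by
    intro k h1 h2 x hx
    interval_cases k
    · obtain ⟨t, rfl⟩ := S.X1 hx
      rw [S.n2_o, D.O0 hF, S.n2_o]
      exact D.O3 hF t
    · obtain ⟨p, u, rfl⟩ := S.X2 hx
      rw [S.n2_e, D.E1 hF, S.n2_e]
      exact D.E3 hF p u
    · obtain ⟨t, rfl⟩ := S.X3 hx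
      rw [S.n2_o, D.O1 hF, S.n2_o]
      exact D.O2 hF t
    · obtain ⟨p, u, rfl⟩ := S.X4 hx
      rw [S.n2_e, D.E2 hF, S.n2_e]
      exact D.E2 hF p u
    · obtain ⟨t, rfl⟩ := S.X5 hx
      rw [S.n2_o, D.O2 hF, S.n2_o]
      exact D.O1 hF t
    · obtain ⟨p, u, rfl⟩ := S.X6 hx
      rw [S.n2_e, D.E3 hF, S.n2_e]
      exact D.E1 hF p u
    · obtain ⟨t, rfl⟩ := S.X7 hx
      rw [S.n2_o, D.O3 hF, S.n2_o]
      exact D.O0 hF t
  have hJ : ∀ x ∈ S.Q, α (S.n2 * x * S.n2⁻¹) = S.n2 * α x * S.n2⁻¹ := by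
    let M : Subgroup G := MonoidHom.eqLocus (α.toMonoidHom.comp (MulAut.conj S.n2).toMonoidHom)
      ((MulAut.conj S.n2).toMonoidHom.comp α.toMonoidHom)
    have : J S.XZ 1 7 ≤ M := J_le fun k h1 h2 x hx => hgen k h1 h2 x hx
    exact fun x hx => this hx
  have hQ : ∀ y ∈ S.Q, ∃ x ∈ S.Q, α x = y := by
    let M : Subgroup G := S.Q.map α.toMonoidHom
    have : J S.XZ 1 7 ≤ M := J_le fun k h1 h2 x hx => by
      have mk : ∀ z, z ∈ S.XZ k → z ∈ S.Q := fun z hz => mem_J hz h1 h2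
      have hsur : ∀ u : F, ∃ v, D.τ v = u := fun u => Finite.surjective_of_injective D.τ.injective u
      interval_cases k
      · obtain ⟨t, rfl⟩ := S.X1 hx
        obtain ⟨t', rfl⟩ := hsur t
        exact ⟨S.o 0 t', mk _ (S.mX1 t'), D.O0 hF t'⟩
      · obtain ⟨p, u, rfl⟩ := S.X2 hx
        obtain ⟨p', rfl⟩ := hsur p
        obtain ⟨u', rfl⟩ := hsur u
        exact ⟨S.e 1 p' u', mk _ (S.mX2 p' u'), D.E1 hF p' u'⟩
      · obtain ⟨t, rfl⟩ := S.X3 hx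
        obtain ⟨t', rfl⟩ := hsur t
        exact ⟨S.o 1 t', mk _ (S.mX3 t'), D.O1 hF t'⟩
      · obtain ⟨p, u, rfl⟩ := S.X4 hx
        obtain ⟨p', rfl⟩ := hsur p
        obtain ⟨u', rfl⟩ := hsur u
        exact ⟨S.e 2 p' u', mk _ (S.mX4 p' u'), D.E2 hF p' u'⟩
      · obtain ⟨t, rfl⟩ := S.X5 hx
        obtain ⟨t', rfl⟩ := hsur t
        exact ⟨S.o 2 t', mk _ (S.mX5 t'), D.O2 hF t'⟩
      · obtain ⟨p, u, rfl⟩ := S.X6 hx
        obtain ⟨p', rfl⟩ := hsur p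
        obtain ⟨u', rfl⟩ := hsur u
        exact ⟨S.e 3 p' u', mk _ (S.mX6 p' u'), D.E3 hF p' u'⟩
      · obtain ⟨t, rfl⟩ := S.X7 hx
        obtain ⟨t', rfl⟩ := hsur t
        exact ⟨S.o 3 t', mk _ (S.mX7 t'), D.O3 hF t'⟩
    exact fun y hy => this hy
  set w := S.n2⁻¹ * α S.n2 with hw
  have hwC : w ∈ S.Zc 2 := by
    rw [← S.centralizer_Q, Subgroup.mem_centralizer_iff]
    intro y hy
    obtain ⟨x, hx, rfl⟩ := hQ y hy
    have h1 := hJ x hx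
    rw [map_mul, map_mul, map_inv] at h1
    have h2 : w * α x * w⁻¹ = α x := by
      rw [hw]
      calc S.n2⁻¹ * α S.n2 * α x * (S.n2⁻¹ * α S.n2)⁻¹ = S.n2⁻¹ * (α S.n2 * α x * (α S.n2)⁻¹) * S.n2 := by group
        _ = _ := by rw [h1]; group
    rw [mul_inv_eq_iff_eq_mul] at h2
    exact h2.symm
  have n2_T : ∀ t ∈ S.T, S.n2 * t * S.n2⁻¹ ∈ S.T := by
    intro t ht
    obtain ⟨c, d, rfl⟩ := S.mem_T.1 ht
    rw [S.n2_h]
    exact S.mem_T.2 ⟨_, _, rfl⟩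
  have hwT : ∀ t ∈ S.T, w * t * w⁻¹ ∈ S.T := by
    intro t ht
    have h1 := D.inv_T ht
    have h2 := (D.N.T _).2 (n2_T _ h1)
    rw [map_mul, map_mul, map_inv, MulEquiv.apply_symm_apply] at h2
    have h3 := n2_T _ h2
    have e : S.n2 * (α S.n2 * t * (α S.n2)⁻¹) * S.n2⁻¹ = w * t * w⁻¹ := by
      rw [hw, mul_inv_rev, inv_inv, Full.n2_inv S]; simp only [mul_assoc]
    rwa [e] at h3
  have hw1 : w = 1 := by
    obtain ⟨t, ht, ht1⟩ := exists_Tk S hF 1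
    have hwJ : w ∈ J S.XZ 4 4 := mem_J (S.Zc_le 2 hwC) (by norm_num) (by norm_num)
    have h1 : w * t * w⁻¹ * t⁻¹ ∈ S.T := mul_mem (hwT t ht.1) (inv_mem ht.1)
    have h2 : w * t * w⁻¹ * t⁻¹ ∈ J S.XZ 1 8 := by
      have e : w * t * w⁻¹ * t⁻¹ = w * (t * w⁻¹ * t⁻¹) := by group
      rw [e]
      exact mul_mem (J_mono (by norm_num) (by norm_num) hwJ)
        (J_mono (by norm_num) (by norm_num) (S.T_conj_J ht.1 (inv_mem hwJ)))
    have h3 := S.U_inf_T h1 h2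
    have h4 : t * w * t⁻¹ = w := by
      have : w * t = t * w := by
        rw [mul_inv_eq_one, mul_inv_eq_iff_eq_mul] at h3
        exact h3
      rw [← this, mul_inv_cancel_right]
    have h5 := S.fix_J ht ht1 (a := 1) (b := 8) (by norm_num) (by norm_num) (by norm_num)
      (J_mono (by norm_num) (by norm_num) hwJ) h4
    exact S.zsys8.inter 1 _ h5 (J_mono (by norm_num) (by norm_num) hwJ)
  exact (inv_mul_eq_one.1 (hw.symm.trans hw1)).symm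

/-- **`α` on all odd root groups** -/
theorem all_o (a : ZMod 8) : ∀ t, α (S.o a t) = S.o a (D.τ t) := by
  refine Sys.ind8 (P := fun a => ∀ t, α (S.o a t) = S.o a (D.τ t)) 0 (D.O0 hF) ?_ a
  intro a ih t
  have e : S.n1 * (S.n2 * S.o a t * S.n2⁻¹) * S.n1⁻¹ = S.o (a + 1) t := by
    rw [S.n2_o, S.n1_o]; congr 1; ring
  have e' : S.n1 * (S.n2 * S.o a (D.τ t) * S.n2⁻¹) * S.n1⁻¹ = S.o (a + 1) (D.τ t) := by
    rw [S.n2_o, S.n1_o]; congr 1; ring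
  rw [← e, ← e']
  simp only [map_mul, map_inv, D.n1' hF, D.n2' hF, ih]

/-- **`α` on all even root groups** -/
theorem all_e (a : ZMod 8) : ∀ p u, α (S.e a p u) = S.e a (D.τ p) (D.τ u) := by
  refine Sys.ind8 (P := fun a => ∀ p u, α (S.e a p u) = S.e a (D.τ p) (D.τ u)) 1 (D.E1 hF) ?_ a
  intro a ih p u
  have e : S.n1 * (S.n2 * S.e a p u * S.n2⁻¹) * S.n1⁻¹ = S.e (a + 1) p u := by
    rw [S.n2_e, S.n1_e]; congr 1; ring
  have e' : S.n1 * (S.n2 * S.e a (D.τ p) (D.τ u) * S.n2⁻¹) * S.n1⁻¹ = S.e (a + 1) (D.τ p) (D.τ u) := by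
    rw [S.n2_e, S.n1_e]; congr 1; ring
  rw [← e, ← e']
  simp only [map_mul, map_inv, D.n1' hF, D.n2' hF, ih]

end Dat

end Cfsg.Agent.KFacts.TwF4.AutTau
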